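import Groth.Agent.Lib.Hurwitz17.Local
import Groth.Agent.Lib.CurveCoh17.Euler
import Groth.Agent.Lib.Curve17.Basic
import Groth.Agent.Lib.VarDim.Normal
import Groth.Agent.Lib.KrullAkizuki.DVR
import Groth.Agent.Lib.WeilH13.Count
import Groth.Prelude.Def_Pi1
import Mathlib.AlgebraicGeometry.Morphisms.Finite
import Mathlib.RingTheory.RamificationInertia.Ramification

/-!
# The local algebra of a finite map of normal curves over a point
-/

set_option linter.style.haveILetI false
set_option autoImplicit false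
set_option maxHeartbeats 800000

universe u

open CategoryTheory TopologicalSpace Opposite CategoryTheory.Limits AlgebraicGeometry
open scoped nonZeroDivisors

namespace Groth.Agent.Hurwitz17

open Groth.Agent.CurveCoh17

attribute [local instance] stalkMod Curv2.resAlgebra

/-- The ramification index of an extension of local rings with `S` a discrete valuation ring. -/
theorem ramificationIdx_eq_of_map_eq {R S : Type u} [CommRing R] [IsLocalRing R] [CommRing S] [IsDomain S]
    [IsPrincipalIdealRing S] [IsLocalRing S] [Algebra R S] [IsLocalHom (algebraMap R S)]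
    (hS : IsLocalRing.maximalIdeal S ≠ ⊥) {e : ℕ}
    (he : (IsLocalRing.maximalIdeal R).map (algebraMap R S) = IsLocalRing.maximalIdeal S ^ e) :
    (IsLocalRing.maximalIdeal S).ramificationIdx R = e := by
  haveI : (IsLocalRing.maximalIdeal S).LiesOver (IsLocalRing.maximalIdeal R) :=
    ⟨(IsLocalRing.maximalIdeal_comap (algebraMap R S)).symm⟩
  rw [← Ideal.ramificationIdx'_eq_ramificationIdx' (IsLocalRing.maximalIdeal R) (IsLocalRing.maximalIdeal S)
    (he ▸ pow_ne_zero e hS)]
  refine Ideal.ramificationIdx'_spec he.le fun h => ?_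
  rw [he] at h
  exact ((Ideal.pow_right_strictAnti (IsLocalRing.maximalIdeal S) hS (IsLocalRing.maximalIdeal.isMaximal S).ne_top)
    (Nat.lt_succ_self e)).not_ge h

/-- The prime of a point in an affine open consists of the functions not invertible there. -/
theorem mem_primeIdealOf_iff {Z : Scheme.{u}} {U : Z.Opens} (hU : IsAffineOpen U) {z : Z} (hz : z ∈ U) (s : Γ(Z, U)) :
    s ∈ (hU.primeIdealOf ⟨z, hz⟩).asIdeal ↔ z ∉ Z.basicOpen s := by
  letI := TopCat.Presheaf.algebra_section_stalk Z.presheaf (⟨z, hz⟩ : U)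
  haveI := hU.isLocalization_stalk ⟨z, hz⟩
  rw [Z.mem_basicOpen s z hz, ← IsLocalization.AtPrime.to_map_mem_maximal_iff (Z.presheaf.stalk z)
    (hU.primeIdealOf ⟨z, hz⟩).asIdeal s, IsLocalRing.mem_maximalIdeal, mem_nonunits_iff]
  rfl

/-- The ramification index at a point. -/
noncomputable def ramIdx {Z W : Scheme.{u}} (g : Z ⟶ W) (z : Z) : ℕ :=
  letI := (g.stalkMap z).hom.toAlgebra
  Ideal.ramificationIdx (IsLocalRing.maximalIdeal (Z.presheaf.stalk z)) (W.presheaf.stalk (g z))

/-- Tameness at a point. -/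
def TameAt {Z W : Scheme.{u}} (g : Z ⟶ W) (z : Z) : Prop :=
  letI := (g.residueFieldMap z).hom.toAlgebra
  Algebra.IsSeparable (W.residueField (g z)) (Z.residueField z) ∧ ((ramIdx g z : ℕ) : W.residueField (g z)) ≠ 0

variable {k : Type u} [Field k] {X Y : Scheme.{u}} [X.Over (Spec (CommRingCat.of k))] [Y.Over (Spec (CommRingCat.of k))]
  (f : X ⟶ Y)

theorem stalkMap_stalkRingMap (hf : f ≫ (Y ↘ Spec (CommRingCat.of k)) = X ↘ Spec (CommRingCat.of k)) (x : X) (c : k) :
    f.stalkMap x (stalkRingMap k (f x) c) = stalkRingMap k x c := by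
  show f.stalkMap x (Y.presheaf.germ ⊤ (f x) trivial
      ((Y ↘ Spec (CommRingCat.of k)).appTop ((Scheme.ΓSpecIso (CommRingCat.of k)).inv c))) =
    X.presheaf.germ ⊤ x trivial ((X ↘ Spec (CommRingCat.of k)).appTop ((Scheme.ΓSpecIso (CommRingCat.of k)).inv c))
  refine (Scheme.Hom.germ_stalkMap_apply f ⊤ x trivial _).trans ?_
  rw [← hf]
  rfl

/-- Affine sections of a normal curve form a Dedekind domain. -/
theorem isDedekindDomain_sections_of_normal [IsIntegral X] [IsLocallyNoetherian X] (hn : Pi1.IsNormalScheme X)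
    (hdim : topologicalKrullDim X ≤ 1) {U : X.Opens} (hU : IsAffineOpen U) [Nonempty U] :
    IsDedekindDomain Γ(X, U) := by
  haveI : IsNoetherianRing Γ(X, U) := IsLocallyNoetherian.component_noetherian ⟨U, hU⟩
  haveI : IsIntegrallyClosed Γ(X, U) := VarDim.isIntegrallyClosed_sections (fun x => (hn x).2) U
  haveI : Ring.KrullDimLE 1 Γ(X, U) := Ring.krullDimLE_iff.2 (by
    rw [← PrimeSpectrum.topologicalKrullDim_eq_ringKrullDim]
    exact (hU.fromSpec.isOpenEmbedding.isInducing.topologicalKrullDim_le).trans hdim)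
  haveI := KrullAkizuki.dimensionLEOne_of_krullDimLE Γ(X, U)
  exact { }

end Groth.Agent.Hurwitz17
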