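import Groth.Agent.Lib.Hurwitz17.Model
import Groth.Agent.Lib.Hurwitz17.Fibre

/-!
# The cokernel of the trace pairing over a point
-/

set_option linter.style.haveILetI false
set_option autoImplicit false
set_option maxHeartbeats 3200000
set_option backward.isDefEq.respectTransparency.types false

universe u

open CategoryTheory TopologicalSpace Opposite CategoryTheory.Limits AlgebraicGeometry
open scoped nonZeroDivisors

namespace Groth.Agent.Hurwitz17

open Groth.Agent.M1 Groth.Agent.M2 Groth.Agent.CurveCoh17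

attribute [local instance] stalkMod Curv2.resAlgebra
attribute [local instance] FractionRing.liftAlgebra FractionRing.isScalarTower_liftAlgebra

variable {k : Type u} [Field k] {X Y : Scheme.{u}} [X.Over (Spec (CommRingCat.of k))] [Y.Over (Spec (CommRingCat.of k))]
  [IsIntegral X] [IsIntegral Y] [IsLocallyNoetherian X] [IsLocallyNoetherian Y]
  [LocallyOfFiniteType (X ↘ Spec (CommRingCat.of k))] (f : X ⟶ Y) [IsFinite f]

/-- Over every point the trace pairing is injective; over a closed point its cokernel measures the different. -/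
theorem stalk_count (hnX : Pi1.IsNormalScheme X) (hnY : Pi1.IsNormalScheme Y) (hdX : topologicalKrullDim X ≤ 1)
    (hdY : topologicalKrullDim Y = 1)
    (hf : f ≫ (Y ↘ Spec (CommRingCat.of k)) = X ↘ Spec (CommRingCat.of k))
    (e : f (genericPoint X) = genericPoint Y)
    (hsep : letI := ((Y.presheaf.stalkSpecializes (specializes_of_eq e) ≫ f.stalkMap (genericPoint X)).hom).toAlgebra
      Algebra.IsSeparable Y.functionField X.functionField)
    (hA : FlatMod.IsFinLocFree (RelSpec.QCAlg.directImage f).toModule) (hC : Coh.IsCoh (pushO f)) (y : Y) :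
    Function.Injective (stalkLin (pairDual (trPair f hA)) y) ∧
    (IsClosed ({y} : Set Y) → ∀ S : Finset X, (∀ x, x ∈ S ↔ f x = y) → ∃ d : X → ℕ,
      Module.finrank k ((cokernel (pairDual (trPair f hA))).presheaf.stalk y) =
        ∑ x ∈ S, d x * Module.finrank k (X.residueField x) ∧
      ∀ x, f x = y → 1 ≤ ramIdx f x ∧ ramIdx f x - 1 ≤ d x ∧ (d x = ramIdx f x - 1 ↔ TameAt f x) ∧
        0 < Module.finrank k (X.residueField x)) := by
  classical
  obtain ⟨U, hU, hy, -, hbas⟩ :=
    Trace12.exists_affine_hasBas (RelSpec.QCAlg.directImage f) hA (show y ∈ (⊤ : Y.Opens) from trivial)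
  have hW : IsAffineOpen (f ⁻¹ᵁ U) := hU.preimage f
  haveI : Nonempty U := ⟨⟨y, hy⟩⟩
  have hηU : genericPoint Y ∈ U := (genericPoint_specializes y).mem_open U.2 hy
  have hξU : genericPoint X ∈ f ⁻¹ᵁ U := show f (genericPoint X) ∈ U from e ▸ hηU
  haveI : Nonempty ((f ⁻¹ᵁ U : X.Opens) : Scheme.{u}) := ⟨⟨genericPoint X, hξU⟩⟩
  haveI := functionField_isFractionRing_of_isAffineOpen Y U hU
  haveI := functionField_isFractionRing_of_isAffineOpen X (f ⁻¹ᵁ U) hW
  obtain ⟨hfree, hfin⟩ := Trace12.free_of_hasBas (RelSpec.QCAlg.directImage f) hbas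
  letI : Algebra Γ(Y, U) Γ(X, f ⁻¹ᵁ U) := (f.app U).hom.toAlgebra
  haveI : Module.Free Γ(Y, U) Γ(X, f ⁻¹ᵁ U) := hfree
  haveI : Module.Finite Γ(Y, U) Γ(X, f ⁻¹ᵁ U) := hfin
  let φ : Y.presheaf.stalk (genericPoint Y) ⟶ X.presheaf.stalk (genericPoint X) :=
    Y.presheaf.stalkSpecializes (specializes_of_eq e) ≫ f.stalkMap (genericPoint X)
  letI : Algebra Y.functionField X.functionField := φ.hom.toAlgebra
  haveI : Algebra.IsSeparable Y.functionField X.functionField := hsep
  have hφ : ∀ c : Γ(Y, U), φ (Y.presheaf.germ U (genericPoint Y) hηU c) =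
      X.presheaf.germ (f ⁻¹ᵁ U) (genericPoint X) hξU (f.app U c) := fun c => by
    show f.stalkMap (genericPoint X) (Y.presheaf.stalkSpecializes (specializes_of_eq e) (Y.presheaf.germ U _ hηU c)) = _
    rw [TopCat.Presheaf.germ_stalkSpecializes_apply, Scheme.Hom.germ_stalkMap_apply]
  have hinjAB : Function.Injective (algebraMap Γ(Y, U) Γ(X, f ⁻¹ᵁ U)) := fun a b h => by
    refine germ_injective_of_isIntegral Y (genericPoint Y) hηU (φ.hom.injective ?_)
    show φ (Y.presheaf.germ U (genericPoint Y) hηU a) = φ (Y.presheaf.germ U (genericPoint Y) hηU b)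
    rw [hφ, hφ]
    exact congrArg _ h
  let pp : Ideal Γ(Y, U) := (hU.primeIdealOf ⟨y, hy⟩).asIdeal
  letI : Algebra Γ(Y, U) (Y.presheaf.stalk y) := TopCat.Presheaf.algebra_section_stalk Y.presheaf ⟨y, hy⟩
  haveI hlocA : IsLocalization pp.primeCompl (Y.presheaf.stalk y) := hU.isLocalization_stalk ⟨y, hy⟩
  let M' := Algebra.algebraMapSubmonoid Γ(X, f ⁻¹ᵁ U) pp.primeCompl
  have hM' : M' ≤ (Γ(X, f ⁻¹ᵁ U))⁰ := map_le_nonZeroDivisors_of_injective _ hinjAB pp.primeCompl_le_nonZeroDivisors
  let B' := Localization M'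
  haveI : IsDomain B' := IsLocalization.isDomain_localization hM'
  haveI hlocB : IsLocalization M' B' := Localization.isLocalization
  haveI : IsLocalization (Submonoid.map (algebraMap Γ(Y, U) Γ(X, f ⁻¹ᵁ U)) pp.primeCompl) B' := hlocB
  haveI : IsLocalization (Algebra.algebraMapSubmonoid Γ(X, f ⁻¹ᵁ U) pp.primeCompl) B' := hlocB
  have hle' : pp.primeCompl ≤ Submonoid.comap (algebraMap Γ(Y, U) Γ(X, f ⁻¹ᵁ U)) M' := Submonoid.le_comap_map _
  letI : Algebra (Y.presheaf.stalk y) B' :=
    (IsLocalization.map B' (algebraMap Γ(Y, U) Γ(X, f ⁻¹ᵁ U)) hle' :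
      Y.presheaf.stalk y →+* B').toAlgebra
  haveI : IsScalarTower Γ(Y, U) (Y.presheaf.stalk y) B' := IsScalarTower.of_algebraMap_eq fun a => by
    rw [RingHom.algebraMap_toAlgebra, IsLocalization.map_eq]
    exact IsScalarTower.algebraMap_apply Γ(Y, U) Γ(X, f ⁻¹ᵁ U) B' a
  obtain ⟨hfree', hfin', Φ, hΦ⟩ := exists_trace_model f hA hbas hy B' pp.primeCompl
  haveI := hfree'
  haveI := hfin'
  have hinjAB' : Function.Injective (algebraMap (Y.presheaf.stalk y) B') :=
    IsLocalization.map_injective_of_injective' pp.primeCompl Γ(X, f ⁻¹ᵁ U) B' hle' (fun h => nonZeroDivisors.ne_zero (hM' h) rfl) hinjAB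
  haveI : FaithfulSMul (Y.presheaf.stalk y) B' := (faithfulSMul_iff_algebraMap_injective _ _).2 hinjAB'
  -- function fields
  letI algA'K : Algebra (Y.presheaf.stalk y) Y.functionField :=
    (Y.presheaf.stalkSpecializes (genericPoint_specializes y)).hom.toAlgebra
  haveI : IsScalarTower Γ(Y, U) (Y.presheaf.stalk y) Y.functionField := IsScalarTower.of_algebraMap_eq fun a =>
    (TopCat.Presheaf.germ_stalkSpecializes_apply Y.presheaf hy (genericPoint_specializes y) a).symm
  haveI : IsFractionRing (Y.presheaf.stalk y) Y.functionField :=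
    IsFractionRing.isFractionRing_of_isDomain_of_isLocalization pp.primeCompl (Y.presheaf.stalk y) Y.functionField
  letI algB'L : Algebra B' X.functionField :=
    (IsLocalization.lift (M := M') (g := algebraMap Γ(X, f ⁻¹ᵁ U) X.functionField) fun s =>
      isUnit_iff_ne_zero.2 fun h => nonZeroDivisors.ne_zero (hM' s.2)
        (IsFractionRing.injective Γ(X, f ⁻¹ᵁ U) X.functionField (h.trans (map_zero _).symm)) :
      B' →+* X.functionField).toAlgebra
  haveI : IsScalarTower Γ(X, f ⁻¹ᵁ U) B' X.functionField := IsScalarTower.of_algebraMap_eq fun a =>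
    (IsLocalization.lift_eq _ a).symm
  haveI : IsFractionRing B' X.functionField :=
    IsFractionRing.isFractionRing_of_isDomain_of_isLocalization M' B' X.functionField
  letI algA'L : Algebra (Y.presheaf.stalk y) X.functionField :=
    ((algebraMap B' X.functionField).comp (algebraMap (Y.presheaf.stalk y) B')).toAlgebra
  haveI : IsScalarTower (Y.presheaf.stalk y) B' X.functionField := IsScalarTower.of_algebraMap_eq fun _ => rfl
  have hKL : (algebraMap Y.functionField X.functionField).comp (algebraMap (Y.presheaf.stalk y) Y.functionField) =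
      algebraMap (Y.presheaf.stalk y) X.functionField := by
    refine IsLocalization.ringHom_ext pp.primeCompl (RingHom.ext fun a => ?_)
    show φ (algebraMap (Y.presheaf.stalk y) Y.functionField (algebraMap Γ(Y, U) (Y.presheaf.stalk y) a)) =
      algebraMap B' X.functionField (algebraMap (Y.presheaf.stalk y) B' (algebraMap Γ(Y, U) (Y.presheaf.stalk y) a))
    rw [← IsScalarTower.algebraMap_apply Γ(Y, U) (Y.presheaf.stalk y) Y.functionField,
      ← IsScalarTower.algebraMap_apply Γ(Y, U) (Y.presheaf.stalk y) B',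
      IsScalarTower.algebraMap_apply Γ(Y, U) Γ(X, f ⁻¹ᵁ U) B', ← IsScalarTower.algebraMap_apply Γ(X, f ⁻¹ᵁ U) B']
    exact hφ a
  haveI : IsScalarTower (Y.presheaf.stalk y) Y.functionField X.functionField :=
    IsScalarTower.of_algebraMap_eq fun a => (RingHom.congr_fun hKL a).symm
  haveI hsep' : Algebra.IsSeparable (FractionRing (Y.presheaf.stalk y)) (FractionRing B') := by
    refine Algebra.IsSeparable.of_equiv_equiv
      (FractionRing.algEquiv (Y.presheaf.stalk y) Y.functionField).symm.toRingEquiv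
      (FractionRing.algEquiv B' X.functionField).symm.toRingEquiv ?_
    refine IsLocalization.ringHom_ext (Y.presheaf.stalk y)⁰ (RingHom.ext fun a => ?_)
    simp only [RingHom.comp_apply]
    show algebraMap (FractionRing (Y.presheaf.stalk y)) (FractionRing B')
        ((FractionRing.algEquiv (Y.presheaf.stalk y) Y.functionField).symm (algebraMap (Y.presheaf.stalk y) Y.functionField a)) =
      (FractionRing.algEquiv B' X.functionField).symm
        (algebraMap Y.functionField X.functionField (algebraMap (Y.presheaf.stalk y) Y.functionField a))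
    rw [← IsScalarTower.algebraMap_apply, IsScalarTower.algebraMap_apply (Y.presheaf.stalk y) B' X.functionField,
      AlgEquiv.commutes, AlgEquiv.commutes, ← IsScalarTower.algebraMap_apply,
      ← IsScalarTower.algebraMap_apply (Y.presheaf.stalk y) B' (FractionRing B')]
  obtain ⟨θD, hθD⟩ := exists_equiv_range_traceForm (RH26.dualEquiv hC y) (stalkLin (pairDual (trPair f hA)) y) Φ
    (fun a b => by rw [dualEquiv_pairDual, hΦ])
  have hinj : Function.Injective (stalkLin (pairDual (trPair f hA)) y) := by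
    refine (injective_iff_map_eq_zero _).2 fun b hb => Φ.injective ?_
    rw [map_zero]
    refine eq_zero_of_trace_mul (A := Y.presheaf.stalk y) (B := B') (K := Y.functionField) (L := X.functionField)
      (Φ b) fun s => ?_
    have h1 := LinearMap.congr_fun (hθD b) s
    rw [hb, map_zero, LinearMap.zero_apply, Algebra.traceForm_apply, mul_comm] at h1
    exact h1.symm
  refine ⟨hinj, fun hyc S hS => ?_⟩
  -- the base is a Dedekind domain and `y` a maximal ideal
  haveI : IsDedekindDomain Γ(Y, U) := isDedekindDomain_sections_of_normal hnY hdY.le hU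
  haveI : IsDedekindDomain Γ(X, f ⁻¹ᵁ U) := isDedekindDomain_sections_of_normal hnX hdX hW
  haveI hppmax : pp.IsMaximal := hU.primeIdealOf_isMaximal_of_isClosed ⟨y, hy⟩ hyc
  have hpp0 : pp ≠ ⊥ := by
    intro h0
    have hη : (hU.primeIdealOf ⟨genericPoint Y, hηU⟩).asIdeal = ⊥ := eq_bot_iff.2 fun s hs => by
      letI := TopCat.Presheaf.algebra_section_stalk Y.presheaf (⟨genericPoint Y, hηU⟩ : U)
      haveI := hU.isLocalization_stalk ⟨genericPoint Y, hηU⟩
      have h1 := (IsLocalization.AtPrime.to_map_mem_maximal_iff (Y.presheaf.stalk (genericPoint Y))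
        (hU.primeIdealOf ⟨genericPoint Y, hηU⟩).asIdeal s).2 hs
      rw [IsLocalRing.isField_iff_maximalIdeal_eq.1 (Field.toIsField Y.functionField)] at h1
      exact germ_injective_of_isIntegral Y (genericPoint Y) hηU ((Submodule.mem_bot _).1 h1 |>.trans (map_zero _).symm)
    have h2 := congrArg hU.fromSpec (PrimeSpectrum.ext (h0.trans hη.symm) :
      hU.primeIdealOf ⟨y, hy⟩ = hU.primeIdealOf ⟨genericPoint Y, hηU⟩)
    rw [IsAffineOpen.fromSpec_primeIdealOf, IsAffineOpen.fromSpec_primeIdealOf] at h2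
    exact genericPoint_ne_of_isClosed hdY hyc h2.symm
  haveI : IsPrincipalIdealRing (Y.presheaf.stalk y) := by
    haveI := IsLocalization.AtPrime.isDiscreteValuationRing_of_dedekind_domain Γ(Y, U) hpp0 (Y.presheaf.stalk y)
    infer_instance
  haveI : Module.IsTorsionFree Γ(Y, U) Γ(X, f ⁻¹ᵁ U) := inferInstance
  haveI : IsDedekindDomain B' := IsLocalization.isDedekindDomain Γ(X, f ⁻¹ᵁ U) hM' B'
  haveI : IsPrincipalIdealRing B' :=
    IsDedekindDomain.isPrincipalIdealRing_localization_over_prime Γ(X, f ⁻¹ᵁ U) pp hpp0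
  haveI : Algebra.IsIntegral Γ(Y, U) Γ(X, f ⁻¹ᵁ U) := Algebra.IsIntegral.of_finite _ _
  haveI : Algebra.IsIntegral (Y.presheaf.stalk y) B' := Algebra.IsIntegral.of_finite _ _
  set m := IsLocalRing.maximalIdeal (Y.presheaf.stalk y) with hm_def
  have hmpp : m.comap (algebraMap Γ(Y, U) (Y.presheaf.stalk y)) = pp :=
    IsLocalization.AtPrime.comap_maximalIdeal (Y.presheaf.stalk y) pp
  have hm0 : m ≠ ⊥ := fun h0 => hpp0 (by
    rw [← hmpp, h0, ← RingHom.ker_eq_comap_bot, (RingHom.injective_iff_ker_eq_bot _).1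
      (IsLocalization.injective (Y.presheaf.stalk y) pp.primeCompl_le_nonZeroDivisors)])
  have hmB : m.map (algebraMap (Y.presheaf.stalk y) B') ≠ ⊥ :=
    (Ideal.map_eq_bot_iff_of_injective hinjAB').not.2 hm0
  -- the points of the fibre
  have hxW : ∀ x, f x = y → x ∈ f ⁻¹ᵁ U := fun x hx => show f x ∈ U from hx.symm ▸ hy
  have hunit : ∀ x (hx : f x = y), ∀ s : M', IsUnit ((X.presheaf.germ (f ⁻¹ᵁ U) x (hxW x hx)).hom s) := by
    rintro x hx ⟨_, a, ha, rfl⟩
    have h1 : y ∈ Y.basicOpen a := by_contra fun h => ha ((mem_primeIdealOf_iff hU hy a).2 h)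
    rw [← hx] at h1
    refine (X.mem_basicOpen (f.app U a) x (hxW x hx)).1 ?_
    rw [← Scheme.preimage_basicOpen]
    exact h1
  let θ : ∀ x (hx : f x = y), B' →+* X.presheaf.stalk x := fun x hx => IsLocalization.lift (M := M') (hunit x hx)
  have hθ : ∀ x hx b, θ x hx (algebraMap Γ(X, f ⁻¹ᵁ U) B' b) = X.presheaf.germ (f ⁻¹ᵁ U) x (hxW x hx) b :=
    fun x hx b => IsLocalization.lift_eq (hunit x hx) b
  have hcomapB : ∀ x hx, ((IsLocalRing.maximalIdeal (X.presheaf.stalk x)).comap (θ x hx)).comap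
      (algebraMap Γ(X, f ⁻¹ᵁ U) B') = (hW.primeIdealOf ⟨x, hxW x hx⟩).asIdeal := fun x hx => by
    letI := TopCat.Presheaf.algebra_section_stalk X.presheaf (⟨x, hxW x hx⟩ : (f ⁻¹ᵁ U : X.Opens))
    haveI := hW.isLocalization_stalk ⟨x, hxW x hx⟩
    ext b
    rw [Ideal.mem_comap, Ideal.mem_comap, hθ x hx]
    exact IsLocalization.AtPrime.to_map_mem_maximal_iff (X.presheaf.stalk x) (hW.primeIdealOf ⟨x, hxW x hx⟩).asIdeal b
  let Pf : X → Ideal B' := fun x =>
    if hx : f x = y then (IsLocalRing.maximalIdeal (X.presheaf.stalk x)).comap (θ x hx) else ⊥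
  have hPf : ∀ x (hx : f x = y), Pf x = (IsLocalRing.maximalIdeal (X.presheaf.stalk x)).comap (θ x hx) :=
    fun x hx => dif_pos hx
  have hover : ∀ x (hx : f x = y), (Pf x).comap (algebraMap (Y.presheaf.stalk y) B') = m := by
    intro x hx
    rw [hPf x hx]
    have h1 : Ideal.comap (algebraMap Γ(Y, U) (Y.presheaf.stalk y))
        (((IsLocalRing.maximalIdeal (X.presheaf.stalk x)).comap (θ x hx)).comap
          (algebraMap (Y.presheaf.stalk y) B')) = pp := by
      ext a
      rw [Ideal.mem_comap, Ideal.mem_comap, ← IsScalarTower.algebraMap_apply,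
        IsScalarTower.algebraMap_apply Γ(Y, U) Γ(X, f ⁻¹ᵁ U) B', ← Ideal.mem_comap, hcomapB x hx,
        mem_primeIdealOf_iff, mem_primeIdealOf_iff hU hy, RingHom.algebraMap_toAlgebra, ← Scheme.preimage_basicOpen,
        ← hx]
      rfl
    exact (IsLocalization.orderEmbedding pp.primeCompl (Y.presheaf.stalk y)).injective (h1.trans hmpp.symm)
  haveI hmax : ∀ x (hx : f x = y), (Pf x).IsMaximal := fun x hx => by
    haveI : (Pf x).IsPrime := by rw [hPf x hx]; exact Ideal.comap_isPrime _ _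
    exact Ideal.isMaximal_of_isIntegral_of_isMaximal_comap (R := Y.presheaf.stalk y) _
      (by rw [hover x hx]; exact IsLocalRing.maximalIdeal.isMaximal _)
  have hPf0 : ∀ x (_ : f x = y), Pf x ≠ ⊥ := fun x hx h0 => hm0 (by
    rw [← hover x hx, h0, ← RingHom.ker_eq_comap_bot, (RingHom.injective_iff_ker_eq_bot _).1 hinjAB'])
  have hPinj : ∀ x ∈ S, ∀ x' ∈ S, Pf x = Pf x' → x = x' := by
    intro x hx x' hx' h
    rw [hS] at hx hx'
    rw [hPf x hx, hPf x' hx'] at h
    have h2 := congrArg (Ideal.comap (algebraMap Γ(X, f ⁻¹ᵁ U) B')) h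
    rw [hcomapB x hx, hcomapB x' hx'] at h2
    have h3 := congrArg hW.fromSpec (PrimeSpectrum.ext h2)
    rwa [IsAffineOpen.fromSpec_primeIdealOf, IsAffineOpen.fromSpec_primeIdealOf] at h3
  have hPsurj : ∀ P : Ideal B', P.IsMaximal → P ∈ S.image Pf := by
    intro P hP
    let q : PrimeSpectrum Γ(X, f ⁻¹ᵁ U) := ⟨P.comap (algebraMap Γ(X, f ⁻¹ᵁ U) B'), inferInstance⟩
    have hxV : hW.fromSpec q ∈ f ⁻¹ᵁ U := by rw [← SetLike.mem_coe, ← hW.range_fromSpec]; exact ⟨q, rfl⟩
    have hq : hW.primeIdealOf ⟨hW.fromSpec q, hxV⟩ = q :=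
      hW.fromSpec.isOpenEmbedding.injective (hW.fromSpec_primeIdealOf _)
    have hfx : f (hW.fromSpec q) = y := by
      have hPm : P.comap (algebraMap (Y.presheaf.stalk y) B') = m :=
        IsLocalRing.eq_maximalIdeal (Ideal.isMaximal_comap_of_isIntegral_of_isMaximal _)
      have h1 : hU.primeIdealOf ⟨f (hW.fromSpec q), hxV⟩ = hU.primeIdealOf ⟨y, hy⟩ := by
        refine PrimeSpectrum.ext ?_
        show (hU.primeIdealOf ⟨f (hW.fromSpec q), hxV⟩).asIdeal = pp
        rw [← hmpp, ← hPm]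
        ext a
        rw [Ideal.mem_comap, Ideal.mem_comap, ← IsScalarTower.algebraMap_apply,
          IsScalarTower.algebraMap_apply Γ(Y, U) Γ(X, f ⁻¹ᵁ U) B', ← Ideal.mem_comap,
          show P.comap (algebraMap Γ(X, f ⁻¹ᵁ U) B') = q.asIdeal from rfl, ← congrArg PrimeSpectrum.asIdeal hq, mem_primeIdealOf_iff,
          mem_primeIdealOf_iff, RingHom.algebraMap_toAlgebra, ← Scheme.preimage_basicOpen]
        rfl
      have h2 := congrArg hU.fromSpec h1
      rwa [IsAffineOpen.fromSpec_primeIdealOf, IsAffineOpen.fromSpec_primeIdealOf] at h2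
    refine Finset.mem_image.2 ⟨hW.fromSpec q, (hS _).2 hfx, ?_⟩
    refine (IsLocalization.orderEmbedding M' B').injective ?_
    show (Pf (hW.fromSpec q)).comap (algebraMap Γ(X, f ⁻¹ᵁ U) B') = P.comap (algebraMap Γ(X, f ⁻¹ᵁ U) B')
    rw [hPf _ hfx, hcomapB _ hfx]
    exact congrArg PrimeSpectrum.asIdeal hq
  -- the algebra over the base field
  letI algkB : Algebra k B' := ((algebraMap (Y.presheaf.stalk y) B').comp (stalkRingMap k y)).toAlgebra
  -- residue fields
  have hres : ∀ x (hx : f x = y), ∃ ρ : (B' ⧸ Pf x) ≃ₐ[k] X.residueField x,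
      ∀ b : B', ρ (Ideal.Quotient.mk (Pf x) b) = X.residue x (θ x hx b) := by
    intro x hx
    haveI := hmax x hx
    have hk : ∀ c : k, θ x hx (algebraMap k B' c) = stalkRingMap k x c := by
      subst hx
      have hhom : (θ x rfl).comp (algebraMap (Y.presheaf.stalk (f x)) B') = (f.stalkMap x).hom := by
        refine IsLocalization.ringHom_ext pp.primeCompl (RingHom.ext fun a => ?_)
        show θ x rfl (algebraMap _ B' (algebraMap Γ(Y, U) (Y.presheaf.stalk (f x)) a)) = _
        rw [← IsScalarTower.algebraMap_apply, IsScalarTower.algebraMap_apply Γ(Y, U) Γ(X, f ⁻¹ᵁ U) B', hθ x rfl]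
        exact (Scheme.Hom.germ_stalkMap_apply f U x hy a).symm
      exact fun c => (RingHom.congr_fun hhom _).trans (stalkMap_stalkRingMap f hf x c)
    have hker : ∀ b ∈ Pf x, (X.residue x).hom (θ x hx b) = 0 := fun b hb => by
      rw [hPf x hx] at hb
      exact (IsLocalRing.residue_eq_zero_iff _).2 hb
    let ρ : (B' ⧸ Pf x) →ₐ[k] X.residueField x :=
      { Ideal.Quotient.lift (Pf x) ((X.residue x).hom.comp (θ x hx)) hker with
        commutes' := fun c => congrArg (X.residue x).hom (hk c) }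
    have hρ : ∀ b, ρ (Ideal.Quotient.mk (Pf x) b) = X.residue x (θ x hx b) := fun b => rfl
    have hρinj : Function.Injective ρ := by
      letI := Ideal.Quotient.field (Pf x)
      exact RingHom.injective ρ.toRingHom
    refine ⟨AlgEquiv.ofBijective ρ ⟨hρinj, fun z => ?_⟩, fun b => hρ b⟩
    obtain ⟨z, rfl⟩ := IsLocalRing.residue_surjective (R := X.presheaf.stalk x) z
    letI := TopCat.Presheaf.algebra_section_stalk X.presheaf (⟨x, hxW x hx⟩ : (f ⁻¹ᵁ U : X.Opens))
    haveI := hW.isLocalization_stalk ⟨x, hxW x hx⟩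
    obtain ⟨⟨b, s⟩, hbs⟩ := IsLocalization.surj (hW.primeIdealOf ⟨x, hxW x hx⟩).asIdeal.primeCompl z
    letI := Ideal.Quotient.field (Pf x)
    refine ⟨Ideal.Quotient.mk (Pf x) (algebraMap _ B' b) / Ideal.Quotient.mk (Pf x) (algebraMap _ B' s.1), ?_⟩
    have hs : ρ (Ideal.Quotient.mk (Pf x) (algebraMap _ B' s.1)) ≠ 0 := fun h0 => s.2 ((hcomapB x hx).le (by
      rw [← hPf x hx, Ideal.mem_comap, ← Ideal.Quotient.eq_zero_iff_mem]
      exact hρinj (h0.trans (map_zero _).symm)))
    rw [map_div₀ ρ, div_eq_iff hs, hρ, hρ, hθ x hx, hθ x hx]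
    exact ((congrArg (IsLocalRing.residue (X.presheaf.stalk x)) hbs).symm.trans (map_mul _ _ _))
  have hclosed : ∀ x, f x = y → IsClosed ({x} : Set X) := fun x hx =>
    AmpleFin18.isClosed_of_ne_genericPoint hdX fun h =>
      genericPoint_ne_of_isClosed hdY hyc (by rw [← hx, h, e])
  have hfinres : ∀ x, f x = y → Module.Finite k (X.residueField x) := fun x hx =>
    WeilH13.finite_residueField_of_isClosed (X ↘ Spec (CommRingCat.of k)) x (hclosed x hx)
  have hfinq : ∀ a : B', a ≠ 0 → Module.Finite k (B' ⧸ Ideal.span {a}) := by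
    intro a
    induction a using UniqueFactorizationMonoid.induction_on_prime with
    | h₁ => exact fun h => absurd rfl h
    | h₂ a ha =>
      intro _
      haveI : Subsingleton (B' ⧸ Ideal.span {a}) := Ideal.Quotient.subsingleton_iff.2 (Ideal.span_singleton_eq_top.2 ha)
      infer_instance
    | h₃ a q ha hq ih =>
      intro _
      have hP : (Ideal.span {q}).IsMaximal := PrincipalIdealRing.isMaximal_of_irreducible hq.irreducible
      obtain ⟨x, hxS, hx⟩ := Finset.mem_image.1 (hPsurj _ hP)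
      obtain ⟨ρ, -⟩ := hres x ((hS x).1 hxS)
      haveI := hfinres x ((hS x).1 hxS)
      haveI h1 : Module.Finite k (B' ⧸ Ideal.span {q}) := hx ▸ Module.Finite.equiv ρ.symm.toLinearEquiv
      haveI := ih ha
      exact finite_quot_mul hq.ne_zero
  -- the stalk of the cokernel
  obtain ⟨E₁⟩ := nonempty_stalk_cokernel (pairDual (trPair f hA)) y
  obtain ⟨E₂⟩ := nonempty_coker_traceForm (Y.presheaf.stalk y) B'
  have hrange : (LinearMap.range (stalkLin (pairDual (trPair f hA)) y)).map θD.toLinearMap =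
      LinearMap.range (Algebra.traceForm (Y.presheaf.stalk y) B') := by
    ext φ
    constructor
    · rintro ⟨_, ⟨b, rfl⟩, rfl⟩
      exact ⟨Φ b, (hθD b).symm⟩
    · rintro ⟨s, rfl⟩
      exact ⟨_, ⟨Φ.symm s, rfl⟩, (hθD _).trans (by rw [LinearEquiv.apply_symm_apply])⟩
  have hdim : Module.finrank k ((cokernel (pairDual (trPair f hA))).presheaf.stalk y) =
      Module.finrank k (B' ⧸ differentIdeal (Y.presheaf.stalk y) B') :=
    finrank_eq_of_linearEquiv (stalkRingMap k y) (fun c z => rfl)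
      (fun c z => by
        obtain ⟨z, rfl⟩ := Ideal.Quotient.mk_surjective z
        exact congrArg (Ideal.Quotient.mk _) ((Algebra.smul_def c z).trans (Algebra.smul_def _ z).symm))
      (E₁.symm.trans ((Submodule.Quotient.equiv _ _ θD hrange).trans E₂))
  obtain ⟨δ, hδ⟩ := (IsPrincipalIdealRing.principal (differentIdeal (Y.presheaf.stalk y) B')).principal
  rw [Ideal.submodule_span_eq] at hδ
  have hδ0 : δ ≠ 0 := fun h0 => differentIdeal_ne_bot (A := Y.presheaf.stalk y) (B := B')
    (by rw [hδ, h0, Ideal.span_singleton_eq_bot])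
  refine ⟨fun x => expo (Pf x) (differentIdeal (Y.presheaf.stalk y) B'), ?_, fun x hx => ?_⟩
  · rw [hdim, hδ, finrank_quot_eq_sum hfinq (S.image Pf) hPsurj δ hδ0, Finset.sum_image hPinj]
    refine Finset.sum_congr rfl fun x hx => ?_
    obtain ⟨ρ, -⟩ := hres x ((hS x).1 hx)
    rw [ρ.toLinearEquiv.finrank_eq]
  haveI hP := hmax x hx
  have hP0 := hPf0 x hx
  haveI : (Pf x).LiesOver m := ⟨(hover x hx).symm⟩
  obtain ⟨ρ, hρ⟩ := hres x hx
  haveI := hfinres x hx
  obtain ⟨Q, hQ, hmul⟩ := Ideal.eq_prime_pow_mul_coprime hmB (Pf x)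
  set ee := Multiset.count (Pf x) (UniqueFactorizationMonoid.normalizedFactors (m.map (algebraMap (Y.presheaf.stalk y) B')))
    with hee
  have hle : m.map (algebraMap (Y.presheaf.stalk y) B') ≤ Pf x := Ideal.map_le_iff_le_comap.2 (hover x hx).ge
  have he1 : 1 ≤ ee := by
    have h1 := (pow_dvd_iff_le_expo hP hP0 hmB 1).1 (by rw [pow_one]; exact Ideal.dvd_iff_le.2 hle)
    convert h1 using 1
    rw [hee, expo]
  have hco : IsCoprime (Pf x ^ ee) Q := IsCoprime.pow_left (Ideal.isCoprime_iff_sup_eq.2 hQ)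
  obtain ⟨hd1, hd2⟩ := expo_different (Y.presheaf.stalk y) m hm0 (Pf x) hP hP0 ee he1 Q hco hmul.symm
  subst hx
  have hhom : (θ x rfl).comp (algebraMap (Y.presheaf.stalk (f x)) B') = (f.stalkMap x).hom := by
    refine IsLocalization.ringHom_ext pp.primeCompl (RingHom.ext fun a => ?_)
    show θ x rfl (algebraMap _ B' (algebraMap Γ(Y, U) (Y.presheaf.stalk (f x)) a)) = _
    rw [← IsScalarTower.algebraMap_apply, IsScalarTower.algebraMap_apply Γ(Y, U) Γ(X, f ⁻¹ᵁ U) B', hθ x rfl]
    exact (Scheme.Hom.germ_stalkMap_apply f U x hy a).symm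
  letI algS : Algebra (Y.presheaf.stalk (f x)) (X.presheaf.stalk x) := (f.stalkMap x).hom.toAlgebra
  haveI : IsLocalHom (algebraMap (Y.presheaf.stalk (f x)) (X.presheaf.stalk x)) :=
    inferInstanceAs (IsLocalHom (f.stalkMap x).hom)
  have hmapP : (Pf x).map (θ x rfl) = IsLocalRing.maximalIdeal (X.presheaf.stalk x) := by
    rw [hPf x rfl]
    refine le_antisymm Ideal.map_comap_le ?_
    letI := TopCat.Presheaf.algebra_section_stalk X.presheaf (⟨x, hxW x rfl⟩ : (f ⁻¹ᵁ U : X.Opens))
    haveI := hW.isLocalization_stalk ⟨x, hxW x rfl⟩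
    rw [← IsLocalization.AtPrime.map_eq_maximalIdeal (hW.primeIdealOf ⟨x, hxW x rfl⟩).asIdeal (X.presheaf.stalk x),
      Ideal.map_le_iff_le_comap]
    intro b hb
    rw [Ideal.mem_comap, show algebraMap Γ(X, f ⁻¹ᵁ U) (X.presheaf.stalk x) b = θ x rfl (algebraMap _ B' b) from (hθ x rfl b).symm]
    refine Ideal.mem_map_of_mem _ ?_
    rwa [← Ideal.mem_comap, IsLocalization.AtPrime.map_eq_maximalIdeal (hW.primeIdealOf ⟨x, hxW x rfl⟩).asIdeal, hcomapB x rfl]
  have hmapQ : Q.map (θ x rfl) = ⊤ := by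
    by_contra hne
    have h1 := IsLocalRing.le_maximalIdeal hne
    rw [Ideal.map_le_iff_le_comap, ← hPf x rfl] at h1
    rw [sup_eq_left.2 h1] at hQ
    exact hP.ne_top hQ
  have hmapm : m.map (algebraMap (Y.presheaf.stalk (f x)) (X.presheaf.stalk x)) =
      IsLocalRing.maximalIdeal (X.presheaf.stalk x) ^ ee := by
    rw [show algebraMap (Y.presheaf.stalk (f x)) (X.presheaf.stalk x) = (θ x rfl).comp (algebraMap _ B') from hhom.symm,
      ← Ideal.map_map, hmul, Ideal.map_mul, Ideal.map_pow, hmapP, hmapQ, Ideal.mul_top]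
  haveI : IsPrincipalIdealRing (X.presheaf.stalk x) := by
    letI := TopCat.Presheaf.algebra_section_stalk X.presheaf (⟨x, hxW x rfl⟩ : (f ⁻¹ᵁ U : X.Opens))
    haveI := hW.isLocalization_stalk ⟨x, hxW x rfl⟩
    have hq0 : (hW.primeIdealOf ⟨x, hxW x rfl⟩).asIdeal ≠ ⊥ := fun h0 => hP0 (by
      rw [← IsLocalization.map_comap M' B' (Pf x), Ideal.under_def, hPf x rfl, hcomapB x rfl, h0, Ideal.map_bot])
    haveI := IsLocalization.AtPrime.isDiscreteValuationRing_of_dedekind_domain Γ(X, f ⁻¹ᵁ U) hq0 (X.presheaf.stalk x)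
    infer_instance
  have hS0 : IsLocalRing.maximalIdeal (X.presheaf.stalk x) ≠ ⊥ := fun h0 => by
    rw [h0, ← Ideal.zero_eq_bot, zero_pow (by omega), Ideal.zero_eq_bot, Ideal.map_eq_bot_iff_of_injective
      (show Function.Injective (algebraMap (Y.presheaf.stalk (f x)) (X.presheaf.stalk x)) from
        Curve17.stalkMap_injective f e x)] at hmapm
    exact hm0 hmapm
  have hram : ramIdx f x = ee := ramificationIdx_eq_of_map_eq hS0 hmapm
  refine ⟨hram ▸ he1, hram ▸ hd1, ?_, Module.finrank_pos⟩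
  rw [hram, hd2, TameAt, hram]
  letI := (f.residueFieldMap x).hom.toAlgebra
  letI := Ideal.Quotient.field m
  letI := Ideal.Quotient.field (Pf x)
  let e₁ : (Y.presheaf.stalk (f x) ⧸ m) ≃+* Y.residueField (f x) :=
    { toFun := fun z => z
      invFun := fun z => z
      left_inv := fun _ => rfl
      right_inv := fun _ => rfl
      map_mul' := fun _ _ => rfl
      map_add' := fun _ _ => rfl }
  have hcomm : (algebraMap (Y.residueField (f x)) (X.residueField x)).comp e₁.toRingHom =
      ρ.toRingEquiv.toRingHom.comp (algebraMap (Y.presheaf.stalk (f x) ⧸ m) (B' ⧸ Pf x)) := by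
    refine Ideal.Quotient.ringHom_ext (RingHom.ext fun a => ?_)
    show f.residueFieldMap x (Y.residue (f x) a) = ρ (Ideal.Quotient.mk (Pf x) (algebraMap _ B' a))
    rw [hρ, show θ x rfl (algebraMap _ B' a) = f.stalkMap x a from RingHom.congr_fun hhom a]
    exact ConcreteCategory.congr_hom (Scheme.residue_residueFieldMap f x) a
  refine and_congr ⟨fun h => ?_, fun h => ?_⟩ Iff.rfl
  · haveI := h
    exact Algebra.IsSeparable.of_equiv_equiv e₁ ρ.toRingEquiv hcomm
  · haveI := h
    refine Algebra.IsSeparable.of_equiv_equiv e₁.symm ρ.toRingEquiv.symm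
      (RingHom.ext fun a => ρ.injective ?_)
    exact ((RingHom.congr_fun hcomm a).symm.trans (ρ.apply_symm_apply _).symm)

end Groth.Agent.Hurwitz17
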