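import Groth.Agent.Lib.CurveCoh17.PairDeg
import Groth.Agent.Lib.RefHull26.Dual
import Groth.Agent.Lib.LefFEt11.Lift

/-!
# The degree of a dual bundle; the map to the dual bundle given by a pairing
-/

set_option linter.style.haveILetI false
set_option autoImplicit false
set_option maxHeartbeats 800000
set_option backward.isDefEq.respectTransparency.types false

universe u

open CategoryTheory TopologicalSpace Opposite CategoryTheory.Limits AlgebraicGeometry
open scoped TensorProduct

namespace Groth.Agent.Hurwitz17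

open Groth.Agent.M1 Groth.Agent.M2 Groth.Agent.CurveCoh17

variable {X : Scheme.{u}}

/-- The family of forms defined by a section through a pairing. -/
noncomputable def pairSec {A B : X.Modules} (β : CohB1.tensorMod A B ⟶ Coh.structureModule X) (U : X.Opens)
    (b : Γ(B, U)) : Γ(RefHull.dual A, U) :=
  ⟨fun y => (bil β y.1).flip (B.presheaf.germ U y.1 y.2 b), fun V i m y =>
    ⟨V, y.2, 𝟙 V, β.app V (tsec A B m (M2.res B (leOfHom i) b)), fun z => by
      show bil β z.1 (A.presheaf.germ V z.1 z.2 m) (B.presheaf.germ U z.1 (i.le z.2) b) = _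
      rw [show (B.presheaf.germ U z.1 (i.le z.2) b : B.presheaf.stalk z.1) =
          B.presheaf.germ V z.1 z.2 (M2.res B (leOfHom i) b) from (germ_mres B (leOfHom i) z.2 b).symm]
      rw [bil_apply, (LinearEquiv.symm_apply_eq _).2 (stalkEquiv_tsec A B z.1 z.2 m _).symm, stalkLin_apply,
        germ_naturality]⟩⟩

theorem pairSec_apply {A B : X.Modules} (β : CohB1.tensorMod A B ⟶ Coh.structureModule X) (U : X.Opens)
    (b : Γ(B, U)) (y : U) : (pairSec β U b).1 y = (bil β y.1).flip (B.presheaf.germ U y.1 y.2 b) := rfl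

/-- The map to the dual module given by a pairing. -/
noncomputable def pairDual {A B : X.Modules} (β : CohB1.tensorMod A B ⟶ Coh.structureModule X) :
    B ⟶ RefHull.dual A :=
  ⟨PresheafOfModules.homMk
    { app := fun U => AddCommGrpCat.ofHom
        { toFun := fun b => pairSec β U.unop b
          map_zero' := Subtype.ext (funext fun y => by
            show (bil β y.1).flip (B.presheaf.germ U.unop y.1 y.2 0) = 0
            rw [map_zero, map_zero])
          map_add' := fun (b c : Γ(B, U.unop)) => Subtype.ext (funext fun y => by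
            show (bil β y.1).flip (B.presheaf.germ U.unop y.1 y.2 (b + c)) =
              (bil β y.1).flip (B.presheaf.germ U.unop y.1 y.2 b) + (bil β y.1).flip (B.presheaf.germ U.unop y.1 y.2 c)
            rw [map_add, map_add]) }
      naturality := fun {U V} i => by
        ext b
        exact Subtype.ext (funext fun y => congrArg (bil β y.1).flip
          (B.presheaf.germ_res_apply (homOfLE (leOfHom i.unop)) y.1 y.2 b)) }
    fun U (r : Γ(X, U.unop)) (b : Γ(B, U.unop)) => Subtype.ext (funext fun y => by
      show (bil β y.1).flip (B.presheaf.germ U.unop y.1 y.2 (r • b)) =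
        X.presheaf.germ U.unop y.1 y.2 r • (bil β y.1).flip (B.presheaf.germ U.unop y.1 y.2 b)
      rw [Groth.Agent.M1.germ_smul, map_smul])⟩

/-- The transpose of a morphism. -/
noncomputable def dualMap {A A' : X.Modules} (f : A ⟶ A') : RefHull.dual A' ⟶ RefHull.dual A :=
  ⟨PresheafOfModules.homMk
    { app := fun U => AddCommGrpCat.ofHom
        { toFun := fun g => ⟨fun y => (g.1 y).comp (RefHull.stalkMapₗ f y.1), fun V i m y => by
            obtain ⟨W, hW, j, n, hn⟩ := RefHull.isLocSect_of_mem g V i (f.app V m) y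
            exact ⟨W, hW, j, n, fun z => by
              rw [← hn z]
              exact congrArg _ (RefHull.stalkMapₗ_germ f z.1 (j.le z.2) m)⟩⟩
          map_zero' := rfl
          map_add' := fun _ _ => rfl }
      naturality := fun {U V} i => rfl }
    fun U r g => rfl⟩

variable [IsLocallyNoetherian X]

theorem dualEquiv_pairDual {A B : X.Modules} (hA : Coh.IsCoh A)
    (β : CohB1.tensorMod A B ⟶ Coh.structureModule X) (x : X) (b : B.presheaf.stalk x) (a : A.presheaf.stalk x) :
    RH26.dualEquiv hA x (stalkLin (pairDual β) x b) a = (RH26.str x).symm (bil β x a b) := by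
  obtain ⟨U, hx, t, rfl⟩ := B.presheaf.exists_germ_eq b
  rw [RH26.dualEquiv_apply, stalkLin_apply, germ_naturality]
  congr 1
  exact LinearMap.congr_fun (RefHull.evalStalk_germ A (Coh.structureModule X) x hx _) a

theorem dualEquiv_dualMap {A A' : X.Modules} (hA : Coh.IsCoh A) (hA' : Coh.IsCoh A') (f : A ⟶ A') (x : X)
    (θ : (RefHull.dual A').presheaf.stalk x) :
    RH26.dualEquiv hA x (stalkLin (dualMap f) x θ) = (RH26.dualEquiv hA' x θ).comp (stalkLin f x) := by
  obtain ⟨U, hx, g, rfl⟩ := (RefHull.dual A').presheaf.exists_germ_eq θ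
  refine LinearMap.ext fun a => ?_
  rw [LinearMap.comp_apply, RH26.dualEquiv_apply, RH26.dualEquiv_apply, stalkLin_apply, germ_naturality]
  congr 1
  exact (LinearMap.congr_fun (RefHull.evalStalk_germ A (Coh.structureModule X) x hx _) a).trans
    (LinearMap.congr_fun (RefHull.evalStalk_germ A' (Coh.structureModule X) x hx g) _).symm

theorem isFinLocFreeOfRank_dual [IsIntegral X] {r : ℕ} {A : X.Modules} (hA : FlatMod.IsFinLocFreeOfRank r A) :
    FlatMod.IsFinLocFreeOfRank r (RefHull.dual A) := by
  obtain ⟨n, hn⟩ := VB17.exists_rank_of_isFinLocFree (LefFEt11.isFinLocFree_dual (isFinLocFree_of_ofRank hA))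
  suffices n = r by subst this; exact hn
  obtain ⟨e⟩ := nonempty_stalk_equiv hA (genericPoint X)
  haveI := Module.Finite.equiv e.symm
  haveI := Module.Free.of_equiv e.symm
  rw [← VB17.finrank_stalk hn (genericPoint X), (RH26.dualEquiv (isCoh_of_ofRank hA) (genericPoint X)).finrank_eq,
    Module.finrank_linearMap_self, VB17.finrank_stalk hA]

/-- The dual of a short exact sequence of bundles is short exact. -/
theorem shortExact_dual {S : ShortComplex X.Modules} (hS : S.ShortExact) {r₁ r₂ r₃ : ℕ}
    (h₁ : FlatMod.IsFinLocFreeOfRank r₁ S.X₁) (h₂ : FlatMod.IsFinLocFreeOfRank r₂ S.X₂)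
    (h₃ : FlatMod.IsFinLocFreeOfRank r₃ S.X₃) :
    ∃ w, (ShortComplex.mk (dualMap S.g) (dualMap S.f) w).ShortExact := by
  haveI := hS.mono_f
  haveI := hS.epi_g
  let c₁ := isCoh_of_ofRank h₁
  let c₂ := isCoh_of_ofRank h₂
  let c₃ := isCoh_of_ofRank h₃
  have hgf : ∀ x a, stalkLin S.g x (stalkLin S.f x a) = 0 := fun x a => by
    rw [← stalkLin_comp, S.zero]
    show (stalkAb x).map (0 : S.X₁ ⟶ S.X₃) a = 0
    rw [Functor.map_zero]
    rfl
  have hz : dualMap S.g ≫ dualMap S.f = 0 := by
    refine Scheme.Modules.hom_ext _ _ fun U => ?_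
    ext θ
    refine M1.section_ext _ _ fun x hx => ?_
    rw [← germ_naturality, ← stalkLin_apply, stalkLin_comp]
    refine (RH26.dualEquiv c₁ x).injective ?_
    rw [dualEquiv_dualMap c₁ c₂, dualEquiv_dualMap c₂ c₃]
    refine LinearMap.ext fun a => ?_
    rw [LinearMap.comp_apply, LinearMap.comp_apply, hgf, map_zero]
    rw [show ((0 : RefHull.dual S.X₃ ⟶ RefHull.dual S.X₁).app U) θ = 0 from rfl, map_zero, map_zero,
      LinearMap.zero_apply]
  refine ⟨hz, ?_⟩
  have hsurj : ∀ x, Function.Surjective (stalkLin S.g x) := (epi_iff_stalk S.g).1 inferInstance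
  have hinj : ∀ x, Function.Injective (stalkLin S.f x) := (mono_iff_stalk S.f).1 inferInstance
  have hex : ∀ x, Function.Exact (stalkLin S.f x) (stalkLin S.g x) := fun x b => by
    refine ⟨fun hb => (exact_iff_stalk_eq_zero S).1 hS.exact x b hb, ?_⟩
    rintro ⟨a, rfl⟩
    exact hgf x a
  refine { exact := ?_, mono_f := ?_, epi_g := ?_ }
  · refine (exact_iff_stalk_eq_zero _).2 fun x θ hθ => ?_
    have h0 : (RH26.dualEquiv c₂ x θ).comp (stalkLin S.f x) = 0 := by
      rw [← dualEquiv_dualMap c₁ c₂, show stalkLin (dualMap S.f) x θ = 0 from hθ, map_zero]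
    have hex' : LinearMap.ker (stalkLin S.g x) ≤ LinearMap.ker (RH26.dualEquiv c₂ x θ) := fun b hb => by
      obtain ⟨a, rfl⟩ := (hex x b).1 hb
      exact LinearMap.congr_fun h0 a
    let φ := ((LinearMap.ker (stalkLin S.g x)).liftQ _ hex').comp
      ((stalkLin S.g x).quotKerEquivOfSurjective (hsurj x)).symm.toLinearMap
    refine ⟨(RH26.dualEquiv c₃ x).symm φ, ?_⟩
    show stalkLin (dualMap S.g) x _ = θ
    refine (RH26.dualEquiv c₂ x).injective ?_
    rw [dualEquiv_dualMap c₂ c₃, LinearEquiv.apply_symm_apply]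
    refine LinearMap.ext fun b => ?_
    have hb : ((stalkLin S.g x).quotKerEquivOfSurjective (hsurj x)).symm (stalkLin S.g x b) = Submodule.Quotient.mk b :=
      (LinearEquiv.symm_apply_eq _).2 rfl
    show (LinearMap.ker (stalkLin S.g x)).liftQ _ hex' _ = _
    rw [LinearEquiv.coe_coe, hb]
    rfl
  · refine (mono_iff_stalk _).2 fun x a b hab => ?_
    refine (RH26.dualEquiv c₃ x).injective (LinearMap.ext fun v => ?_)
    obtain ⟨v, rfl⟩ := hsurj x v
    have := congrArg (fun θ => RH26.dualEquiv c₂ x θ) (show stalkLin (dualMap S.g) x a = stalkLin (dualMap S.g) x b from hab)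
    simp only [dualEquiv_dualMap c₂ c₃] at this
    exact LinearMap.congr_fun this v
  · refine (epi_iff_stalk _).2 fun x θ => ?_
    obtain ⟨e₃⟩ := nonempty_stalk_equiv h₃ x
    haveI : Module.Projective (X.presheaf.stalk x) (S.X₃.presheaf.stalk x) := Module.Projective.of_equiv e₃.symm
    obtain ⟨l, hl⟩ := Module.projective_lifting_property (stalkLin S.g x) LinearMap.id (hsurj x)
    obtain ⟨ρ, hρ⟩ : ∃ ρ : S.X₂.presheaf.stalk x →ₗ[X.presheaf.stalk x] S.X₁.presheaf.stalk x, ρ.comp (stalkLin S.f x) = LinearMap.id := by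
      have hr : ∀ b, b - l (stalkLin S.g x b) ∈ LinearMap.range (stalkLin S.f x) := fun b => (hex x _).1 (by
        rw [map_sub, show stalkLin S.g x (l (stalkLin S.g x b)) = stalkLin S.g x b from LinearMap.congr_fun hl _,
          sub_self])
      refine ⟨(LinearEquiv.ofInjective (stalkLin S.f x) (hinj x)).symm.toLinearMap.comp
        (LinearMap.codRestrict (LinearMap.range (stalkLin S.f x)) ((LinearMap.id : S.X₂.presheaf.stalk x →ₗ[X.presheaf.stalk x] S.X₂.presheaf.stalk x) - l.comp (stalkLin S.g x)) hr), LinearMap.ext fun a => ?_⟩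
      refine (LinearEquiv.symm_apply_eq (LinearEquiv.ofInjective (stalkLin S.f x) (hinj x))).2 (Subtype.ext ?_)
      show stalkLin S.f x a - l (stalkLin S.g x (stalkLin S.f x a)) = stalkLin S.f x a
      rw [hgf, map_zero, sub_zero]
    refine ⟨(RH26.dualEquiv c₂ x).symm ((RH26.dualEquiv c₁ x θ).comp ρ), ?_⟩
    show stalkLin (dualMap S.f) x _ = θ
    refine (RH26.dualEquiv c₁ x).injective ?_
    rw [dualEquiv_dualMap c₁ c₂, LinearEquiv.apply_symm_apply, LinearMap.comp_assoc, hρ, LinearMap.comp_id]

variable {k : Type u} [Field k] [X.Over (Spec (CommRingCat.of k))]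

/-- `deg E^∨ = -deg E`. -/
theorem deg_dual [IsIntegral X] (hX : VB17.RegCurve k X) (hdim : topologicalKrullDim X = 1) :
    ∀ (r : ℕ) {E : X.Modules} (_ : FlatMod.IsFinLocFreeOfRank r E),
      Curv2.deg k X (RefHull.dual E) r = -Curv2.deg k X E r := by
  haveI := hX.like.noetherian
  intro r
  induction r with
  | zero =>
    intro E hE
    rw [VB17.deg_rank_zero hX.like hE, VB17.deg_rank_zero hX.like (isFinLocFreeOfRank_dual hE), neg_zero]
  | succ r ih =>
    intro E hE
    obtain ⟨L, i, hL, hi, hQ⟩ := exists_saturated_line hX hdim hE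
    haveI := hi
    have hL1 := (isInvertible_iff_isFinLocFreeOfRank_one L).1 hL
    have hS : (ShortComplex.mk i (cokernel.π i) (cokernel.condition i)).ShortExact :=
      { exact := ShortComplex.exact_of_g_is_cokernel _ (cokernelIsCokernel _) }
    have hdegE := VB17.deg_add hX.like hS hL1 hE hQ
    obtain ⟨w, hS'⟩ := shortExact_dual hS hL1 hE hQ
    have hdegD := VB17.deg_add hX.like hS' (isFinLocFreeOfRank_dual hQ) (isFinLocFreeOfRank_dual hE)
      (isFinLocFreeOfRank_dual hL1)
    have hline : Curv2.deg k X (RefHull.dual L) 1 = -Curv2.deg k X L 1 := by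
      obtain ⟨D, hD, ⟨e⟩⟩ := exists_inverse hL
      have hiso : IsIso (pairDual e.hom) := by
        refine (M1.isIso_iff_stalk _).2 fun x => ?_
        show Function.Bijective (stalkLin (pairDual e.hom) x)
        obtain ⟨eL⟩ := nonempty_stalk_equiv hL1 x
        obtain ⟨eD⟩ := nonempty_stalk_equiv ((isInvertible_iff_isFinLocFreeOfRank_one D).1 hD) x
        let R := X.presheaf.stalk x
        let l₀ := (eL.trans (LinearEquiv.funUnique (Fin 1) R R)).symm
        let d₀ := (eD.trans (LinearEquiv.funUnique (Fin 1) R R)).symm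
        have hb : Function.Bijective (stalkLin e.hom x) := ConcreteCategory.bijective_of_isIso ((stalkAb x).map e.hom)
        let u : R := (RH26.str x).symm (bil e.hom x (l₀ 1) (d₀ 1))
        have hu : IsUnit u := by
          obtain ⟨t, ht⟩ := ((RH26.str x).symm.surjective.comp (hb.2.comp (stalkEquiv L D x).symm.surjective)) (1 : R)
          obtain ⟨c, hc⟩ : ∃ c : R, t = c • (l₀ 1 ⊗ₜ[R] d₀ 1) := by
            clear ht
            induction t using TensorProduct.induction_on with
            | zero => exact ⟨0, by rw [zero_smul]⟩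
            | tmul a b =>
              obtain ⟨p, rfl⟩ := l₀.surjective a
              obtain ⟨q, rfl⟩ := d₀.surjective b
              exact ⟨p * q, by
                conv_lhs => rw [show p = p • (1 : R) by rw [smul_eq_mul, mul_one], show q = q • (1 : R) by rw [smul_eq_mul, mul_one],
                  map_smul, map_smul]
                rw [TensorProduct.tmul_smul, ← TensorProduct.smul_tmul', smul_smul, mul_comm q p]⟩
            | add a b ha hb => obtain ⟨p, rfl⟩ := ha; obtain ⟨q, rfl⟩ := hb; exact ⟨p + q, (add_smul _ _ _).symm⟩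
          refine IsUnit.of_mul_eq_one_right c ?_
          rw [← ht, hc]
          simp only [Function.comp_apply, map_smul, smul_eq_mul]
          rfl
        have key : ∀ q p : R, RH26.dualEquiv (isCoh_of_ofRank hL1) x (stalkLin (pairDual e.hom) x (d₀ q)) (l₀ p) =
            p * (q * u) := fun q p => by
          rw [dualEquiv_pairDual, ← mul_one p, ← mul_one q, ← smul_eq_mul, ← smul_eq_mul (a := q), map_smul, map_smul,
            map_smul, LinearMap.smul_apply, map_smul, map_smul]
          simp only [smul_eq_mul, mul_one, u]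
          rw [map_smul (RH26.str x).symm]
          rfl
        refine ⟨fun a b hab => ?_, fun θ => ?_⟩
        · obtain ⟨p, rfl⟩ := d₀.surjective a
          obtain ⟨q, rfl⟩ := d₀.surjective b
          have h := congrArg (fun θ => RH26.dualEquiv (isCoh_of_ofRank hL1) x θ (l₀ 1)) hab
          simp only [key, one_mul] at h
          rw [hu.mul_right_cancel h]
        · obtain ⟨v, hv⟩ := hu
          refine ⟨d₀ (RH26.dualEquiv (isCoh_of_ofRank hL1) x θ (l₀ 1) * ↑v⁻¹), (RH26.dualEquiv (isCoh_of_ofRank hL1) x).injective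
            (LinearMap.ext fun a => ?_)⟩
          obtain ⟨p, rfl⟩ := l₀.surjective a
          rw [key, ← hv, mul_assoc, Units.inv_mul, mul_one]
          conv_rhs => rw [← mul_one p, ← smul_eq_mul, map_smul, map_smul, smul_eq_mul]
      haveI := hiso
      rw [← deg_iso (asIso (pairDual e.hom)), hX.like.deg_of_tensor_iso hL hD e]
    have hihQ := ih hQ
    change Curv2.deg k X E (r + 1) = Curv2.deg k X L 1 + Curv2.deg k X (cokernel i) r at hdegE
    change Curv2.deg k X (RefHull.dual E) (r + 1) =
      Curv2.deg k X (RefHull.dual (cokernel i)) r + Curv2.deg k X (RefHull.dual L) 1 at hdegD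
    linarith

end Groth.Agent.Hurwitz17
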