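import Groth.Agent.Lib.Hurwitz17.Count
import Groth.Agent.Lib.CurveOm17.Hurwitz
import Groth.Agent.Lib.RefHull26.Misc
import Groth.Agent.Lib.VB17.Setup

/-!
# Hurwitz's inequality for normal curves, with equality exactly in the tame case
-/

set_option linter.style.haveILetI false
set_option autoImplicit false
set_option maxHeartbeats 1600000
set_option backward.isDefEq.respectTransparency.types false

universe u

open CategoryTheory TopologicalSpace Opposite CategoryTheory.Limits AlgebraicGeometry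
open scoped nonZeroDivisors

namespace Groth.Agent.Hurwitz17

open Groth.Agent.M1 Groth.Agent.M2 Groth.Agent.CurveCoh17

attribute [local instance] stalkMod Curv2.resAlgebra

variable {k : Type u} [Field k] {X Y : Scheme.{u}} [X.Over (Spec (CommRingCat.of k))] [Y.Over (Spec (CommRingCat.of k))]

/-- The rank of the direct image is the degree of the function field extension. -/
theorem rank_eq_finrank [IsIntegral X] [IsIntegral Y] (f : X ⟶ Y) [IsFinite f]
    (e : f (genericPoint X) = genericPoint Y) (hA : FlatMod.IsFinLocFree (RelSpec.QCAlg.directImage f).toModule)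
    {n : ℕ} (hn : FlatMod.IsFinLocFreeOfRank n (pushO f)) :
    letI := ((Y.presheaf.stalkSpecializes (specializes_of_eq e) ≫ f.stalkMap (genericPoint X)).hom).toAlgebra
    Module.finrank Y.functionField X.functionField = n := by
  obtain ⟨U, hU, hηU, -, hbas⟩ :=
    Trace12.exists_affine_hasBas (RelSpec.QCAlg.directImage f) hA (show genericPoint Y ∈ (⊤ : Y.Opens) from trivial)
  haveI : Nonempty U := ⟨⟨_, hηU⟩⟩
  have hξU : genericPoint X ∈ f ⁻¹ᵁ U := show f (genericPoint X) ∈ U from e ▸ hηU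
  haveI : Nonempty ((f ⁻¹ᵁ U : X.Opens) : Scheme.{u}) := ⟨⟨genericPoint X, hξU⟩⟩
  have hW : IsAffineOpen (f ⁻¹ᵁ U) := hU.preimage f
  haveI := functionField_isFractionRing_of_isAffineOpen Y U hU
  haveI := functionField_isFractionRing_of_isAffineOpen X (f ⁻¹ᵁ U) hW
  letI : Algebra Γ(Y, U) Γ(X, f ⁻¹ᵁ U) := (f.app U).hom.toAlgebra
  let φ : Y.presheaf.stalk (genericPoint Y) ⟶ X.presheaf.stalk (genericPoint X) :=
    Y.presheaf.stalkSpecializes (specializes_of_eq e) ≫ f.stalkMap (genericPoint X)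
  letI : Algebra Y.functionField X.functionField := φ.hom.toAlgebra
  letI : Algebra Γ(Y, U) X.functionField :=
    ((algebraMap Γ(X, f ⁻¹ᵁ U) X.functionField).comp (algebraMap Γ(Y, U) Γ(X, f ⁻¹ᵁ U))).toAlgebra
  haveI : IsScalarTower Γ(Y, U) Γ(X, f ⁻¹ᵁ U) X.functionField := IsScalarTower.of_algebraMap_eq fun _ => rfl
  haveI : IsScalarTower Γ(Y, U) Y.functionField X.functionField := IsScalarTower.of_algebraMap_eq fun c => by
    show X.presheaf.germ (f ⁻¹ᵁ U) _ hξU (f.app U c) =
      f.stalkMap (genericPoint X) (Y.presheaf.stalkSpecializes (specializes_of_eq e) (Y.presheaf.germ U _ hηU c))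
    rw [TopCat.Presheaf.germ_stalkSpecializes_apply, Scheme.Hom.germ_stalkMap_apply]
  obtain ⟨hfree, hfin⟩ := Trace12.free_of_hasBas (RelSpec.QCAlg.directImage f) hbas
  haveI : Module.Free Γ(Y, U) Γ(X, f ⁻¹ᵁ U) := hfree
  haveI : Module.Finite Γ(Y, U) Γ(X, f ⁻¹ᵁ U) := hfin
  haveI : Algebra.IsIntegral Γ(Y, U) Γ(X, f ⁻¹ᵁ U) := Algebra.IsIntegral.of_finite _ _
  have hA' : ∀ a : Γ(Y, U), a ≠ 0 → algebraMap Γ(Y, U) Γ(X, f ⁻¹ᵁ U) a ≠ 0 := fun a ha h0 =>
    ha ((IsFractionRing.injective Γ(Y, U) Y.functionField) ((algebraMap Y.functionField X.functionField).injective (by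
      rw [← IsScalarTower.algebraMap_apply, IsScalarTower.algebraMap_apply Γ(Y, U) Γ(X, f ⁻¹ᵁ U) X.functionField, h0,
        map_zero, map_zero, map_zero])))
  haveI hloc : IsLocalization (Algebra.algebraMapSubmonoid Γ(X, f ⁻¹ᵁ U) (Γ(Y, U))⁰) X.functionField := by
    refine { map_units := ?_, surj := ?_, exists_of_eq := ?_ }
    · rintro ⟨_, a, ha, rfl⟩
      refine isUnit_iff_ne_zero.2 fun h0 => hA' a (nonZeroDivisors.ne_zero ha) ?_
      exact IsFractionRing.injective Γ(X, f ⁻¹ᵁ U) X.functionField (h0.trans (map_zero _).symm)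
    · intro z
      obtain ⟨⟨b, n'⟩, hz⟩ := IsLocalization.surj (Γ(X, f ⁻¹ᵁ U))⁰ z
      obtain ⟨a, ha, c, hc⟩ := (Algebra.IsIntegral.isIntegral (R := Γ(Y, U)) (n' : Γ(X, f ⁻¹ᵁ U))).isAlgebraic.exists_nonzero_dvd n'.2
      refine ⟨⟨b * c, ⟨algebraMap Γ(Y, U) Γ(X, f ⁻¹ᵁ U) a, a, mem_nonZeroDivisors_of_ne_zero ha, rfl⟩⟩, ?_⟩
      show z * algebraMap Γ(X, f ⁻¹ᵁ U) X.functionField (algebraMap Γ(Y, U) Γ(X, f ⁻¹ᵁ U) a) =
        algebraMap Γ(X, f ⁻¹ᵁ U) X.functionField (b * c)
      rw [hc, map_mul, map_mul, ← mul_assoc, hz]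
    · intro a b hab
      exact ⟨1, by rw [IsFractionRing.injective Γ(X, f ⁻¹ᵁ U) X.functionField hab]⟩
  obtain ⟨m, e₁, he⟩ := id hbas
  obtain ⟨b₀, -⟩ := Trace12.exists_basis (RelSpec.QCAlg.directImage f) he
  let b : Module.Basis (Fin m) Γ(Y, U) Γ(X, f ⁻¹ᵁ U) := b₀
  rw [Module.finrank_eq_card_basis (b.localizationLocalization Y.functionField (Γ(Y, U))⁰ X.functionField),
    Fintype.card_fin, ← VB17.finrank_stalk hn (genericPoint Y)]
  let L : (Fin m → Y.presheaf.stalk (genericPoint Y)) →ₗ[Y.presheaf.stalk (genericPoint Y)]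
      (pushO f).presheaf.stalk (genericPoint Y) :=
    Fintype.linearCombination (Y.presheaf.stalk (genericPoint Y)) fun i =>
      ((pushO f).presheaf.germ U (genericPoint Y) hηU (e₁ i) : (pushO f).presheaf.stalk (genericPoint Y))
  rw [← (LinearEquiv.ofBijective L (he.stalk hηU)).finrank_eq, Module.finrank_pi, Fintype.card_fin]

/-- Hurwitz's inequality `-2χ(O_X) ≥ -2nχ(O_Y) + Σ (e_x - 1)[κ(x):k]`, with equality iff tame. -/
theorem hurwitz [IsProper (X ↘ Spec (CommRingCat.of k))] [IsProper (Y ↘ Spec (CommRingCat.of k))]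
    [IsIntegral X] [IsIntegral Y] (hdX : topologicalKrullDim X = 1) (hdY : topologicalKrullDim Y = 1)
    (hnX : Pi1.IsNormalScheme X) (hnY : Pi1.IsNormalScheme Y) (f : X ⟶ Y) [IsFinite f]
    (hf : f ≫ (Y ↘ Spec (CommRingCat.of k)) = X ↘ Spec (CommRingCat.of k))
    (e : f (genericPoint X) = genericPoint Y)
    (hsep : letI := ((Y.presheaf.stalkSpecializes (specializes_of_eq e) ≫ f.stalkMap (genericPoint X)).hom).toAlgebra
      Algebra.IsSeparable Y.functionField X.functionField) (F : X → ℤ)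
    (hF : ∀ x, IsClosed ({x} : Set X) → F x = ((ramIdx f x - 1 : ℕ) : ℤ) * (Module.finrank k (X.residueField x) : ℤ))
    (hF0 : ∀ x, ¬ IsClosed ({x} : Set X) → F x = 0) :
    letI := ((Y.presheaf.stalkSpecializes (specializes_of_eq e) ≫ f.stalkMap (genericPoint X)).hom).toAlgebra
    ((∑ᶠ x, F x) ≤ 2 * ((Module.finrank Y.functionField X.functionField : ℤ) * Curv2.euler k Y (Coh.structureModule Y) -
        Curv2.euler k X (Coh.structureModule X))) ∧
      ((∑ᶠ x, F x) = 2 * ((Module.finrank Y.functionField X.functionField : ℤ) * Curv2.euler k Y (Coh.structureModule Y) -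
        Curv2.euler k X (Coh.structureModule X)) ↔ ∀ x : X, IsClosed ({x} : Set X) → TameAt f x) := by
  classical
  have likeY := VB17.curveLike (k := k) hdY
  have likeX := VB17.curveLike (k := k) hdX
  haveI := likeY.noetherian
  haveI := likeX.noetherian
  have hY : VB17.RegCurve k Y := ⟨likeY, inferInstance, fun y =>
    RH26.isPrincipalIdealRing_of_normal hnY ((VB17.ringKrullDim_stalk_le_topologicalKrullDim y).trans hdY.le)⟩
  haveI := flat_of_pid f hY.pid e
  haveI : LocallyOfFinitePresentation f := {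
    finitePresentation_appLE := fun {U} hU {V} hV le =>
      haveI := IsLocallyNoetherian.component_noetherian (X := Y) ⟨U, hU⟩
      RingHom.FinitePresentation.of_finiteType.mp (f.finiteType_appLE hU hV le) }
  have hA : FlatMod.IsFinLocFree (RelSpec.QCAlg.directImage f).toModule := isFinLocFree_pushO f
  obtain ⟨n, hn⟩ := VB17.exists_rank_of_isFinLocFree (isFinLocFree_pushO f)
  rw [rank_eq_finrank f e hA hn]
  have hC : Coh.IsCoh (pushO f) := isCoh_of_ofRank hn
  have hcount := stalk_count f hnX hnY hdX.le hdY hf e hsep hA hC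
  let ψ := pairDual (trPair f hA)
  haveI : Mono ψ := (mono_iff_stalk ψ).2 fun y => (hcount y).1
  have hD := isFinLocFreeOfRank_dual hn
  have hjump := CurveOm17.deg_eq_add_of_mono likeY hn hD ψ
  rw [deg_dual hY hdY n hn, Curv2.deg, euler_pushO f hf] at hjump
  obtain ⟨S₀, hS₀⟩ := exists_suppIn_of_maximal likeY.dim
    (isCoh_cokernel hC.1 (isCoh_of_ofRank hD) ψ) fun y hy => eq_genericPoint_of_maximal hy ▸
      eq_zero_stalk_cokernel ψ _ (surjective_stalkLin_genericPoint (nonempty_stalk_equiv hn _)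
        (nonempty_stalk_equiv hD _) ψ ((hcount _).1))
  have hfinH := likeY.fin _ (isCoh_cokernel hC.1 (isCoh_of_ofRank hD) ψ) 0
  haveI := fun y : S₀ => hS₀.finite_stalk hfinH y
  have hfib : ∀ y : Y, ({x : X | f x = y} : Set X).Finite := fun y =>
    (f.finite_preimage (Set.finite_singleton y)).subset fun x hx => hx
  have hd : ∀ y : Y, ∃ d : X → ℕ, IsClosed ({y} : Set Y) →
      Module.finrank k ((cokernel ψ).presheaf.stalk y) =
        ∑ x ∈ (hfib y).toFinset, d x * Module.finrank k (X.residueField x) ∧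
      ∀ x, f x = y → 1 ≤ ramIdx f x ∧ ramIdx f x - 1 ≤ d x ∧ (d x = ramIdx f x - 1 ↔ TameAt f x) ∧
        0 < Module.finrank k (X.residueField x) := fun y => by
    by_cases hy : IsClosed ({y} : Set Y)
    · obtain ⟨d, hd⟩ := (hcount y).2 hy (hfib y).toFinset fun x => by simp
      exact ⟨d, fun _ => hd⟩
    · exact ⟨0, fun h => absurd h hy⟩
  choose dd hdd using hd
  let d : X → ℕ := fun x => dd (f x) x
  let κ : X → ℕ := fun x => Module.finrank k (X.residueField x)
  have himg : ∀ x, IsClosed ({x} : Set X) → IsClosed ({f x} : Set Y) := fun x hx => by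
    rw [← Set.image_singleton]; exact f.isClosedMap _ hx
  have hpre : ∀ x, IsClosed ({f x} : Set Y) → IsClosed ({x} : Set X) := fun x hx =>
    AmpleFin18.isClosed_of_ne_genericPoint hdX.le fun h =>
      genericPoint_ne_of_isClosed hdY hx (by rw [h, e])
  have hloc : ∀ x, IsClosed ({x} : Set X) →
      1 ≤ ramIdx f x ∧ ramIdx f x - 1 ≤ d x ∧ (d x = ramIdx f x - 1 ↔ TameAt f x) ∧ 0 < κ x :=
    fun x hx => (hdd (f x) (himg x hx)).2 x rfl
  have hzero : ∀ x, IsClosed ({x} : Set X) → f x ∉ S₀ → d x = 0 := fun x hx hxS => by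
    haveI : Subsingleton ((cokernel ψ).presheaf.stalk (f x)) :=
      ⟨fun a b => (hS₀.zero _ hxS a).trans (hS₀.zero _ hxS b).symm⟩
    have h1 := (hdd (f x) (himg x hx)).1
    rw [Module.finrank_zero_of_subsingleton, eq_comm, Finset.sum_eq_zero_iff] at h1
    exact (mul_eq_zero.1 (h1 x (by simp))).resolve_right (hloc x hx).2.2.2.ne'
  let T : Finset X := S₀.biUnion fun y => (hfib y).toFinset
  have hTmem : ∀ x, x ∈ T ↔ f x ∈ S₀ := fun x => by simp [T]
  have hTcl : ∀ x ∈ T, IsClosed ({x} : Set X) := fun x hx => hpre x (hS₀.closed _ ((hTmem x).1 hx))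
  have hh0 : (Module.finrank k (Coh.HH Y (cokernel ψ) 0) : ℤ) = ∑ x ∈ T, (d x : ℤ) * κ x := by
    rw [(hS₀.h0Equiv k).finrank_eq, Module.finrank_pi_fintype, Finset.sum_biUnion (fun y _ y' _ hne => by
      rw [Function.onFun, Finset.disjoint_left]
      intro x h1 h2
      simp only [Set.Finite.mem_toFinset, Set.mem_setOf_eq] at h1 h2
      exact hne (h1.symm.trans h2)), Nat.cast_sum]
    rw [Finset.sum_coe_sort S₀ fun y => ((Module.finrank k ((cokernel ψ).presheaf.stalk y) : ℕ) : ℤ)]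
    refine Finset.sum_congr rfl fun y hy => ?_
    rw [(hdd y (hS₀.closed y hy)).1, Nat.cast_sum]
    refine Finset.sum_congr rfl fun x hx => ?_
    simp only [Set.Finite.mem_toFinset, Set.mem_setOf_eq] at hx
    subst hx
    push_cast
    rfl
  have hsum : ∑ᶠ x, F x = ∑ x ∈ T, F x := finsum_eq_sum_of_support_subset _ fun x hx => by
    by_contra hxT
    by_cases hxc : IsClosed ({x} : Set X)
    · have := (hloc x hxc).2.1
      rw [hzero x hxc fun h => hxT ((hTmem x).2 h)] at this
      exact hx (by rw [hF x hxc, Nat.le_zero.1 this]; simp)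
    · exact hx (hF0 x hxc)
  have hle : ∀ x ∈ T, F x ≤ (d x : ℤ) * κ x := fun x hx => by
    rw [hF x (hTcl x hx)]
    exact mul_le_mul_of_nonneg_right (by exact_mod_cast (hloc x (hTcl x hx)).2.1) (by positivity)
  have htotal : 2 * ((n : ℤ) * Curv2.euler k Y (Coh.structureModule Y) - Curv2.euler k X (Coh.structureModule X)) =
      ∑ x ∈ T, (d x : ℤ) * κ x := by
    rw [← hh0]
    omega
  rw [hsum, htotal]
  refine ⟨Finset.sum_le_sum hle, ?_⟩
  rw [Finset.sum_eq_sum_iff_of_le hle]
  refine ⟨fun h x hx => (hloc x hx).2.2.1.1 ?_, fun h x hx => ?_⟩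
  · by_cases hxT : x ∈ T
    · have h1 := h x hxT
      rw [hF x hx] at h1
      have hκ : (κ x : ℤ) ≠ 0 := by exact_mod_cast (hloc x hx).2.2.2.ne'
      exact_mod_cast (mul_right_cancel₀ hκ h1).symm
    · have h0 := hzero x hx fun hh => hxT ((hTmem x).2 hh)
      have := (hloc x hx).2.1
      omega
  · rw [hF x (hTcl x hx), (hloc x (hTcl x hx)).2.2.1.2 (h x (hTcl x hx))]

end Groth.Agent.Hurwitz17
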