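import Groth.Agent.S11570

/-!
# The cokernel of the trace form, the exponent of the different, and tameness
-/

set_option linter.style.haveILetI false
set_option autoImplicit false
set_option maxHeartbeats 800000

universe u

open scoped nonZeroDivisors
open UniqueFactorizationMonoid

namespace Groth.Agent.Hurwitz17

attribute [local instance] FractionRing.liftAlgebra FractionRing.isScalarTower_liftAlgebra

section Coker

variable (A B : Type u) [CommRing A] [IsDomain A] [IsDedekindDomain A] [CommRing B] [IsDomain B]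
  [IsPrincipalIdealRing B] [Algebra A B] [Module.Finite A B] [Module.Free A B] [Module.IsTorsionFree A B]
  [Algebra.IsSeparable (FractionRing A) (FractionRing B)]


/-- The cokernel of the trace form is the ring modulo the different. -/
theorem nonempty_coker_traceForm :
    Nonempty ((Module.Dual A B ⧸ LinearMap.range (Algebra.traceForm A B)) ≃ₗ[A] B ⧸ differentIdeal A B) := by
  let K := FractionRing A
  let L := FractionRing B
  haveI : IsLocalization (Algebra.algebraMapSubmonoid B A⁰) L :=
    IsIntegralClosure.isLocalization A K L B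
  haveI : FiniteDimensional K L := Module.Finite.of_isLocalization A B A⁰
  obtain ⟨δ, hδ⟩ := (IsPrincipalIdealRing.principal (differentIdeal A B)).principal
  rw [Ideal.submodule_span_eq] at hδ
  have hD : differentIdeal A B = Ideal.span {δ} := hδ
  have hδ0 : δ ≠ 0 := fun h => differentIdeal_ne_bot (A := A) (B := B) (by rw [hD, h, Ideal.span_singleton_eq_bot])
  set c : L := (algebraMap B L δ)⁻¹ with hc
  have hdual : FractionalIdeal.dual A K (1 : FractionalIdeal B⁰ L) = FractionalIdeal.spanSingleton B⁰ c := by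
    have h := coeIdeal_differentIdeal A K L B
    rw [hD, FractionalIdeal.coeIdeal_span_singleton] at h
    rw [← inv_inv (FractionalIdeal.dual A K (1 : FractionalIdeal B⁰ L)), ← h,
      FractionalIdeal.spanSingleton_inv]
  have htr : ∀ t s : B, ∃ a : A, algebraMap A K a = Algebra.trace K L (c * algebraMap B L t * algebraMap B L s) := by
    intro t s
    have hm : c * algebraMap B L t ∈ FractionalIdeal.dual A K (1 : FractionalIdeal B⁰ L) := by
      rw [hdual]; exact (FractionalIdeal.mem_spanSingleton B⁰).2 ⟨t, by rw [Algebra.smul_def, mul_comm]⟩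
    obtain ⟨a, ha⟩ := (FractionalIdeal.mem_dual (one_ne_zero : (1 : FractionalIdeal B⁰ L) ≠ 0)).1 hm (algebraMap B L s)
      ((FractionalIdeal.mem_one_iff _).2 ⟨s, rfl⟩)
    exact ⟨a, ha⟩
  choose Ψ hΨ using htr
  have hinjA := IsFractionRing.injective A K
  have hAL : ∀ (r : A) (b : B), algebraMap B L (r • b) = algebraMap A K r • algebraMap B L b := fun r b => by
    rw [Algebra.smul_def, map_mul, Algebra.smul_def, ← IsScalarTower.algebraMap_apply A B L,
      IsScalarTower.algebraMap_apply A K L]
  let Φ : B →ₗ[A] Module.Dual A B :=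
    LinearMap.mk₂ A Ψ
      (fun t t' s => hinjA (by rw [map_add, hΨ, hΨ, hΨ, map_add, mul_add, add_mul, map_add]))
      (fun r t s => hinjA (by rw [smul_eq_mul, map_mul, hΨ, hΨ, hAL, mul_smul_comm, smul_mul_assoc, map_smul, smul_eq_mul]))
      (fun t s s' => hinjA (by rw [map_add, hΨ, hΨ, hΨ, map_add, mul_add, map_add]))
      (fun r t s => hinjA (by rw [smul_eq_mul, map_mul, hΨ, hΨ, hAL, mul_smul_comm, map_smul, smul_eq_mul]))
  have hform : ∀ (φ : Module.Dual A B), ∃ z : L, ∀ s : B, Algebra.trace K L (z * algebraMap B L s) = algebraMap A K (φ s) := by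
    intro φ
    let b := Module.Free.chooseBasis A B
    let bL := b.localizationLocalization K A⁰ L
    obtain ⟨z, hz⟩ := ((Algebra.traceForm K L).toDual (traceForm_nondegenerate K L)).surjective
      (bL.constr K fun i => algebraMap A K (φ (b i)))
    refine ⟨z, fun s => ?_⟩
    have h1 : ∀ i, Algebra.trace K L (z * algebraMap B L (b i)) = algebraMap A K (φ (b i)) := fun i => by
      have := LinearMap.congr_fun hz (bL i)
      rw [Module.Basis.constr_basis, LinearMap.BilinForm.toDual_def, Algebra.traceForm_apply] at this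
      rwa [Module.Basis.localizationLocalization_apply] at this
    conv_lhs => rw [← b.sum_repr s]
    conv_rhs => rw [← b.sum_repr s]
    rw [map_sum, Finset.mul_sum, map_sum, map_sum, map_sum]
    refine Finset.sum_congr rfl fun i _ => ?_
    rw [hAL, mul_smul_comm, map_smul, h1, map_smul, smul_eq_mul, smul_eq_mul, map_mul]
  have hbij : Function.Bijective Φ := by
    refine ⟨(injective_iff_map_eq_zero Φ).2 fun t ht => ?_, fun φ => ?_⟩
    · have h0 : c * algebraMap B L t = 0 := by
        refine (traceForm_nondegenerate K L).1 _ fun l => ?_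
        obtain ⟨⟨s, ⟨_, r, hr, rfl⟩⟩, hl⟩ := IsLocalization.surj (Algebra.algebraMapSubmonoid B A⁰) l
        have hu : algebraMap A K r ≠ 0 := fun h0 => nonZeroDivisors.ne_zero hr (hinjA (h0.trans (map_zero _).symm))
        rw [Algebra.traceForm_apply, ← mul_right_inj' hu, mul_zero, ← smul_eq_mul, ← map_smul, ← mul_smul_comm,
          show algebraMap A K r • l = algebraMap B L s by
            rw [Algebra.smul_def, ← IsScalarTower.algebraMap_apply, IsScalarTower.algebraMap_apply A B L, mul_comm, hl],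
          ← hΨ, show Ψ t s = Φ t s from rfl, ht, LinearMap.zero_apply, map_zero]
      rcases mul_eq_zero.1 h0 with h | h
      · exact absurd h (inv_ne_zero (by rw [map_ne_zero_iff _ (IsFractionRing.injective B L)]; exact hδ0))
      · exact IsFractionRing.injective B L (h.trans (map_zero _).symm)
    · obtain ⟨z, hz⟩ := hform φ
      have hm : z ∈ FractionalIdeal.dual A K (1 : FractionalIdeal B⁰ L) := by
        refine (FractionalIdeal.mem_dual (one_ne_zero : (1 : FractionalIdeal B⁰ L) ≠ 0)).2 fun a ha => ?_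
        obtain ⟨s, rfl⟩ := (FractionalIdeal.mem_one_iff _).1 ha
        exact ⟨φ s, (hz s).symm⟩
      rw [hdual, FractionalIdeal.mem_spanSingleton] at hm
      obtain ⟨t, rfl⟩ := hm
      refine ⟨t, LinearMap.ext fun s => hinjA ?_⟩
      rw [show Φ t s = Ψ t s from rfl, hΨ, ← hz, Algebra.smul_def, mul_comm c]
  let e := LinearEquiv.ofBijective Φ hbij
  have hrange : ((differentIdeal A B).restrictScalars A).map e.toLinearMap = LinearMap.range (Algebra.traceForm A B) := by
    have key : ∀ t, Φ (t * δ) = Algebra.traceForm A B t := fun t => LinearMap.ext fun s => hinjA (by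
      rw [show Φ (t * δ) s = Ψ (t * δ) s from rfl, hΨ, Algebra.traceForm_apply,
        ← Algebra.trace_localization A A⁰ (Rₘ := K) (Sₘ := L) (t * s), map_mul (algebraMap B L), map_mul (algebraMap B L)]
      congr 1
      rw [hc, mul_comm (algebraMap B L t), ← mul_assoc (algebraMap B L δ)⁻¹,
        inv_mul_cancel₀ (by rw [map_ne_zero_iff _ (IsFractionRing.injective B L)]; exact hδ0), one_mul])
    ext φ
    constructor
    · rintro ⟨d, hd, rfl⟩
      obtain ⟨t, rfl⟩ := Ideal.mem_span_singleton'.1 (hD ▸ (hd : d ∈ differentIdeal A B))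
      exact ⟨t, (key t).symm⟩
    · rintro ⟨t, rfl⟩
      exact ⟨t * δ, (hD ▸ Ideal.mem_span_singleton'.2 ⟨t, rfl⟩ : t * δ ∈ differentIdeal A B), key t⟩
  exact ⟨(Submodule.Quotient.equiv _ _ e hrange).symm.trans
    (Submodule.Quotient.restrictScalarsEquiv A (differentIdeal A B))⟩

end Coker

section Count

variable {k B : Type u} [Field k] [CommRing B] [IsDomain B] [IsPrincipalIdealRing B] [Algebra k B]

/-- `dim B/(ab) = dim B/a + dim B/b`. -/
theorem finrank_quot_mul {a b : B} (ha : a ≠ 0) [Module.Finite k (B ⧸ Ideal.span {a * b})] :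
    Module.finrank k (B ⧸ Ideal.span {a * b}) =
      Module.finrank k (B ⧸ Ideal.span {a}) + Module.finrank k (B ⧸ Ideal.span {b}) := by
  have hle : Ideal.span {a * b} ≤ Ideal.span {a} :=
    Ideal.span_singleton_le_span_singleton.2 (dvd_mul_right a b)
  have hmul : Ideal.span {b} ≤ Submodule.comap (LinearMap.mulLeft B a) (Ideal.span {a * b} : Ideal B) := by
    intro y hy
    obtain ⟨c, rfl⟩ := Ideal.mem_span_singleton'.1 hy
    exact Ideal.mem_span_singleton'.2 ⟨c, by simp only [LinearMap.mulLeft_apply]; ring⟩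
  let i := (Submodule.mapQ (Ideal.span {b}) (Ideal.span {a * b}) (LinearMap.mulLeft B a) hmul).restrictScalars k
  let g := (Ideal.Quotient.factorₐ k hle).toLinearMap
  have hi : Function.Injective i := by
    rw [injective_iff_map_eq_zero]
    intro y hy
    obtain ⟨y, rfl⟩ := Ideal.Quotient.mk_surjective y
    replace hy : Ideal.Quotient.mk (Ideal.span {a * b}) (a * y) = 0 := hy
    rw [Ideal.Quotient.eq_zero_iff_mem, Ideal.mem_span_singleton, mul_dvd_mul_iff_left ha] at hy
    exact Ideal.Quotient.eq_zero_iff_mem.2 (Ideal.mem_span_singleton.2 hy)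
  have hg : Function.Surjective g := fun y => by
    obtain ⟨y, rfl⟩ := Ideal.Quotient.mk_surjective y
    exact ⟨Ideal.Quotient.mk _ y, rfl⟩
  have hex : LinearMap.range i = LinearMap.ker g := by
    refine le_antisymm ?_ fun y hy => ?_
    · rintro _ ⟨y, rfl⟩
      obtain ⟨y, rfl⟩ := Ideal.Quotient.mk_surjective y
      show Ideal.Quotient.mk (Ideal.span {a}) (a * y) = 0
      exact Ideal.Quotient.eq_zero_iff_mem.2 (Ideal.mem_span_singleton.2 (dvd_mul_right a y))
    · obtain ⟨y, rfl⟩ := Ideal.Quotient.mk_surjective y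
      obtain ⟨c, rfl⟩ := Ideal.mem_span_singleton.1 (Ideal.Quotient.eq_zero_iff_mem.1 (show Ideal.Quotient.mk (Ideal.span {a}) y = 0 from hy))
      exact ⟨Ideal.Quotient.mk _ c, rfl⟩
  rw [← LinearMap.finrank_range_add_finrank_ker g, LinearMap.range_eq_top.2 hg, finrank_top, ← hex,
    LinearMap.finrank_range_of_inj hi]

/-- Finiteness of `B/(ab)`. -/
theorem finite_quot_mul {a b : B} (ha : a ≠ 0) [Module.Finite k (B ⧸ Ideal.span {a})] [Module.Finite k (B ⧸ Ideal.span {b})] :
    Module.Finite k (B ⧸ Ideal.span {a * b}) := by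
  have hle : Ideal.span {a * b} ≤ Ideal.span {a} :=
    Ideal.span_singleton_le_span_singleton.2 (dvd_mul_right a b)
  have hmul : Ideal.span {b} ≤ Submodule.comap (LinearMap.mulLeft B a) (Ideal.span {a * b} : Ideal B) := by
    intro y hy
    obtain ⟨c, rfl⟩ := Ideal.mem_span_singleton'.1 hy
    exact Ideal.mem_span_singleton'.2 ⟨c, by simp only [LinearMap.mulLeft_apply]; ring⟩
  let i := (Submodule.mapQ (Ideal.span {b}) (Ideal.span {a * b}) (LinearMap.mulLeft B a) hmul).restrictScalars k
  let g := (Ideal.Quotient.factorₐ k hle).toLinearMap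
  have hex : LinearMap.ker g ≤ LinearMap.range i := fun y hy => by
    obtain ⟨y, rfl⟩ := Ideal.Quotient.mk_surjective y
    obtain ⟨c, rfl⟩ := Ideal.mem_span_singleton.1 (Ideal.Quotient.eq_zero_iff_mem.1 (show Ideal.Quotient.mk (Ideal.span {a}) y = 0 from hy))
    exact ⟨Ideal.Quotient.mk _ c, rfl⟩
  haveI : Module.Finite k (LinearMap.ker g) := Module.Finite.of_injective
    (Submodule.inclusion hex) (Submodule.inclusion_injective hex)
  haveI : Module.Finite k ((B ⧸ Ideal.span {a * b}) ⧸ LinearMap.ker g) := Module.Finite.equiv g.quotKerEquivRange.symm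
  exact Module.Finite.of_submodule_quotient (LinearMap.ker g)

/-- The exponent of a maximal ideal in an ideal. -/
noncomputable def expo (P I : Ideal B) : ℕ := by classical exact (normalizedFactors I).count P

/-- `dim B/I` is the sum of the exponents times residue degrees. -/
theorem finrank_quot_eq_sum (hfin : ∀ a : B, a ≠ 0 → Module.Finite k (B ⧸ Ideal.span {a})) (S : Finset (Ideal B))
    (hS : ∀ P : Ideal B, P.IsMaximal → P ∈ S) (a : B) :
    a ≠ 0 → Module.finrank k (B ⧸ Ideal.span {a}) = ∑ P ∈ S, expo P (Ideal.span {a}) * Module.finrank k (B ⧸ P) := by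
  classical
  induction a using UniqueFactorizationMonoid.induction_on_prime with
  | h₁ => exact fun h => absurd rfl h
  | h₂ x hx =>
    intro _
    rw [Ideal.span_singleton_eq_top.2 hx, Module.finrank_zero_of_subsingleton,
      Finset.sum_eq_zero]
    intro P _
    rw [expo, ← Ideal.one_eq_top, normalizedFactors_one, Multiset.count_zero, zero_mul]
  | h₃ x p hx hp ih =>
    intro _
    have hne : ∀ {y : B}, y ≠ 0 → (Ideal.span {y} : Ideal B) ≠ 0 := fun hy => by
      rwa [Ideal.zero_eq_bot, ne_eq, Ideal.span_singleton_eq_bot]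
    haveI := hfin (p * x) (mul_ne_zero hp.ne_zero hx)
    have hP : (Ideal.span {p}).IsMaximal := PrincipalIdealRing.isMaximal_of_irreducible hp.irreducible
    have hPp : Prime (Ideal.span {p}) := Ideal.prime_of_isPrime (hne hp.ne_zero) hP.isPrime
    rw [finrank_quot_mul hp.ne_zero, ih hx, ← Finset.sum_erase_add _ _ (hS _ hP)]
    conv_rhs => rw [← Finset.sum_erase_add _ _ (hS _ hP)]
    have hexp : ∀ Q, expo Q (Ideal.span {p * x}) = (if Q = Ideal.span {p} then 1 else 0) + expo Q (Ideal.span {x}) := fun Q => by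
      rw [expo, expo, ← Ideal.span_singleton_mul_span_singleton, normalizedFactors_mul (hne hp.ne_zero) (hne hx),
        Multiset.count_add, normalizedFactors_irreducible hPp.irreducible, normalize_eq, Multiset.count_singleton]
    rw [hexp, if_pos rfl, add_mul, one_mul,
      Finset.sum_congr rfl (s₁ := S.erase (Ideal.span {p})) (f := fun Q => expo Q (Ideal.span {p * x}) * Module.finrank k (B ⧸ Q))
        (g := fun Q => expo Q (Ideal.span {x}) * Module.finrank k (B ⧸ Q)) fun Q hQ => by
        rw [hexp Q, if_neg (Finset.ne_of_mem_erase hQ), zero_add]]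
    ring

end Count

section Exponent

variable (A : Type u) {B : Type u} [CommRing A] [IsDomain A] [IsDedekindDomain A] [CommRing B] [IsDomain B]
  [IsPrincipalIdealRing B] [Algebra A B] [Module.Finite A B] [Module.IsTorsionFree A B]
  [Algebra.IsSeparable (FractionRing A) (FractionRing B)]


theorem pow_dvd_iff_le_expo {P I : Ideal B} (hP : P.IsMaximal) (hP0 : P ≠ ⊥) (hI : I ≠ ⊥) (j : ℕ) :
    P ^ j ∣ I ↔ j ≤ expo P I := by
  classical
  have hPp : Prime P := Ideal.prime_of_isPrime hP0 hP.isPrime
  rw [dvd_iff_normalizedFactors_le_normalizedFactors (pow_ne_zero _ hPp.ne_zero) (by simpa using hI),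
    normalizedFactors_pow, normalizedFactors_irreducible hPp.irreducible, normalize_eq, Multiset.nsmul_singleton,
    ← Multiset.le_count_iff_replicate_le]
  rfl

/-- The exponent of the different is at least `e - 1`, with equality exactly in the tame case. -/
theorem expo_different (p : Ideal A) [p.IsMaximal] (hp : p ≠ ⊥) (P : Ideal B) (hP : P.IsMaximal) (hP0 : P ≠ ⊥)
    [P.LiesOver p] (e : ℕ) (he : 1 ≤ e) (Q : Ideal B) (hco : IsCoprime (P ^ e) Q)
    (hmul : P ^ e * Q = p.map (algebraMap A B)) :
    e - 1 ≤ expo P (differentIdeal A B) ∧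
      (expo P (differentIdeal A B) = e - 1 ↔
        (Algebra.IsSeparable (A ⧸ p) (B ⧸ P) ∧ ((e : ℕ) : A ⧸ p) ≠ 0)) := by
  classical
  let K := FractionRing A
  let L := FractionRing B
  haveI : IsLocalization (Algebra.algebraMapSubmonoid B A⁰) L := IsIntegralClosure.isLocalization A K L B
  haveI : FiniteDimensional K L := Module.Finite.of_isLocalization A B A⁰
  have hD0 := differentIdeal_ne_bot (A := A) (B := B)
  have h1 : e - 1 ≤ expo P (differentIdeal A B) :=
    (pow_dvd_iff_le_expo hP hP0 hD0 _).1 (pow_sub_one_dvd_differentIdeal A P e hp (hmul ▸ dvd_mul_right _ _))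
  refine ⟨h1, ?_⟩
  have h2 : P ^ e ∣ differentIdeal A B ↔ ∀ x ∈ Q, Algebra.intTrace A B x ∈ p := by
    refine ⟨fun h x hx => by_contra fun hn => not_dvd_differentIdeal_of_intTrace_not_mem A _ Q hmul x hx hn h,
      fun h => ?_⟩
    have hp' := (Ideal.map_eq_bot_iff_of_injective (FaithfulSMul.algebraMap_injective A B)).not.mpr hp
    have hPe : (P ^ e : Ideal B) ≠ ⊥ := pow_ne_zero e hP0
    have hQ0 : Q ≠ ⊥ := fun h0 => hp' (by rw [← hmul, h0, Ideal.mul_bot])
    have hinv : ((P ^ e :) : FractionalIdeal B⁰ L)⁻¹ = Q / p.map (algebraMap A B) := by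
      apply inv_involutive.injective
      simp only [← hmul, FractionalIdeal.coeIdeal_mul, inv_div, mul_div_assoc]
      rw [div_self (by simpa using hQ0), mul_one, inv_inv]
    rw [Ideal.dvd_iff_le, differentialIdeal_le_iff (K := K) (L := L) hPe, hinv, Submodule.map_le_iff_le_comap]
    intro x hx
    rw [Submodule.restrictScalars_mem, FractionalIdeal.mem_coe,
      FractionalIdeal.mem_div_iff_of_ne_zero (by simpa using hp')] at hx
    rw [Submodule.mem_comap, LinearMap.coe_restrictScalars, ← FractionalIdeal.coe_one,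
      ← div_self (G₀ := FractionalIdeal A⁰ K) (a := p) (by simpa using hp),
      FractionalIdeal.mem_coe, FractionalIdeal.mem_div_iff_of_ne_zero (by simpa using hp)]
    simp only [FractionalIdeal.mem_coeIdeal, forall_exists_index, and_imp, forall_apply_eq_imp_iff₂] at hx
    intro y hy'
    obtain ⟨y, hy, rfl : algebraMap A K _ = _⟩ := (FractionalIdeal.mem_coeIdeal _).mp hy'
    obtain ⟨z, hz, hz'⟩ := hx _ (Ideal.mem_map_of_mem _ hy)
    have : Algebra.trace K L (algebraMap B L z) ∈ (p : FractionalIdeal A⁰ K) := by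
      rw [← Algebra.algebraMap_intTrace (A := A)]
      exact ⟨Algebra.intTrace A B z, h z hz, rfl⟩
    rwa [mul_comm, ← smul_eq_mul, ← map_smul, Algebra.smul_def, mul_comm,
      ← IsScalarTower.algebraMap_apply, IsScalarTower.algebraMap_apply A B L, ← hz']
  letI := Ideal.Quotient.field p
  letI := Ideal.Quotient.field P
  have hle : p.map (algebraMap A B) ≤ P ^ e := Ideal.dvd_iff_le.1 (hmul ▸ dvd_mul_right _ _)
  have hleQ : p.map (algebraMap A B) ≤ Q := Ideal.dvd_iff_le.1 (hmul ▸ dvd_mul_left _ _)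
  letI : Algebra (A ⧸ p) (B ⧸ P ^ e) := Ideal.Quotient.algebraQuotientOfLEComap (Ideal.map_le_iff_le_comap.1 hle)
  letI : Algebra (A ⧸ p) (B ⧸ Q) := Ideal.Quotient.algebraQuotientOfLEComap (Ideal.map_le_iff_le_comap.1 hleQ)
  haveI : IsScalarTower A (A ⧸ p) (B ⧸ P ^ e) := .of_algebraMap_eq' rfl
  haveI : IsScalarTower A (A ⧸ p) (B ⧸ Q) := .of_algebraMap_eq' rfl
  haveI : Module.Finite (A ⧸ p) (B ⧸ P ^ e) := Module.Finite.of_restrictScalars_finite A _ _
  haveI : Module.Finite (A ⧸ p) (B ⧸ Q) := Module.Finite.of_restrictScalars_finite A _ _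
  let E : (B ⧸ p.map (algebraMap A B)) ≃ₐ[A ⧸ p] ((B ⧸ P ^ e) × B ⧸ Q) :=
    { __ := (Ideal.quotEquivOfEq hmul.symm).trans (Ideal.quotientMulEquivQuotientProd _ Q hco),
      commutes' := Quotient.ind fun _ ↦ rfl }
  obtain ⟨ϖ, hϖ⟩ := (IsPrincipalIdealRing.principal P).principal
  rw [Ideal.submodule_span_eq] at hϖ
  have hϖ0 : ϖ ≠ 0 := fun h => hP0 (by rw [hϖ, h, Ideal.span_singleton_eq_bot])
  have htr : ∀ x ∈ Q, Ideal.Quotient.mk p (Algebra.intTrace A B x) =
      e • Algebra.trace (A ⧸ p) (B ⧸ P) (Ideal.Quotient.mk P x) := fun x hx => by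
    rw [← Algebra.trace_quotient_eq_of_isDedekindDomain, ← Algebra.trace_eq_of_algEquiv E, Algebra.trace_prod_apply,
      show (E (Ideal.Quotient.mk _ x)).2 = Ideal.Quotient.mk Q x from rfl, Ideal.Quotient.eq_zero_iff_mem.2 hx,
      map_zero, add_zero, show (E (Ideal.Quotient.mk _ x)).1 = Ideal.Quotient.mk (P ^ e) x from rfl]
    subst hϖ
    exact Groth.Agent.S11570.trace_quot_pow (A := A) (κ := A ⧸ p) Ideal.Quotient.mk_surjective ϖ hϖ0 x e _
      (Ideal.span_singleton_pow ϖ e)
  have hzero : (∀ x ∈ Q, Algebra.intTrace A B x ∈ p) ↔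
      ¬ (Algebra.IsSeparable (A ⧸ p) (B ⧸ P) ∧ ((e : ℕ) : A ⧸ p) ≠ 0) := by
    constructor
    · rintro h ⟨hsep, hn0⟩
      obtain ⟨z, hz⟩ : ∃ z, Algebra.trace (A ⧸ p) (B ⧸ P) z ≠ 0 := by
        simpa [LinearMap.ext_iff] using Algebra.trace_ne_zero (A ⧸ p) (B ⧸ P)
      obtain ⟨w, rfl⟩ := Ideal.Quotient.mk_surjective z
      obtain ⟨x, hx⟩ := Ideal.Quotient.mk_surjective
        (E.symm (Ideal.Quotient.mk (P ^ e) w, 0))
      have hxE : E (Ideal.Quotient.mk _ x) = (Ideal.Quotient.mk (P ^ e) w, 0) := by rw [hx, AlgEquiv.apply_symm_apply]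
      have hxQ : x ∈ Q := Ideal.Quotient.eq_zero_iff_mem.1 (congrArg Prod.snd hxE)
      have hxP : Ideal.Quotient.mk P x = Ideal.Quotient.mk P w :=
        Ideal.Quotient.eq.2 (Ideal.pow_le_self (by omega) (Ideal.Quotient.eq.1 (congrArg Prod.fst hxE)))
      have h0 := htr x hxQ
      rw [Ideal.Quotient.eq_zero_iff_mem.2 (h x hxQ), hxP, nsmul_eq_mul] at h0
      exact mul_ne_zero hn0 hz h0.symm
    · intro hnt x hx
      rw [← Ideal.Quotient.eq_zero_iff_mem, htr x hx, nsmul_eq_mul]
      by_cases hsep : Algebra.IsSeparable (A ⧸ p) (B ⧸ P)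
      · rw [show ((e : ℕ) : A ⧸ p) = 0 from by_contra fun h => hnt ⟨hsep, h⟩, zero_mul]
      · rw [Algebra.trace_eq_zero_of_not_isSeparable hsep]; simp
  have h3 : expo P (differentIdeal A B) = e - 1 ↔ ¬ P ^ e ∣ differentIdeal A B := by
    rw [pow_dvd_iff_le_expo hP hP0 hD0]; omega
  rw [h3, h2, hzero, not_not]

end Exponent

end Groth.Agent.Hurwitz17
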