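import Groth.Agent.Lib.Hurwitz17.DualDeg
import Groth.Agent.Lib.CurveCoh17.TracePair
import Mathlib.RingTheory.Localization.Module

/-!
# The trace pairing of `f_* O_X` on stalks
-/

set_option linter.style.haveILetI false
set_option autoImplicit false
set_option maxHeartbeats 800000
set_option backward.isDefEq.respectTransparency.types false

universe u

open CategoryTheory TopologicalSpace Opposite CategoryTheory.Limits AlgebraicGeometry
open scoped TensorProduct

namespace Groth.Agent.Hurwitz17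

open Groth.Agent.M1 Groth.Agent.M2 Groth.Agent.CurveCoh17

/-- Transport of a perfectly modelled pairing map to the trace form. -/
theorem exists_equiv_range_traceForm {R E D B : Type u} [CommRing R] [AddCommGroup E] [Module R E] [AddCommGroup D]
    [Module R D] [CommRing B] [Algebra R B] (dE : D ≃ₗ[R] Module.Dual R E) (ψ : E →ₗ[R] D) (Φ : E ≃ₗ[R] B)
    (h : ∀ a b, dE (ψ b) a = Algebra.trace R B (Φ a * Φ b)) :
    ∃ θ : D ≃ₗ[R] Module.Dual R B, ∀ b, θ (ψ b) = Algebra.traceForm R B (Φ b) :=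
  ⟨dE.trans Φ.symm.dualMap, fun b => LinearMap.ext fun s => by
    show dE (ψ b) (Φ.symm s) = _
    rw [h, LinearEquiv.apply_symm_apply, Algebra.traceForm_apply, mul_comm]⟩

/-- Modules over the base field through a ring map. -/
theorem finrank_eq_of_linearEquiv {k R M N : Type u} [Semiring k] [CommRing R] (φ : k →+* R) [AddCommGroup M]
    [Module R M] [Module k M] [AddCommGroup N] [Module R N] [Module k N] (hM : ∀ (c : k) (m : M), c • m = φ c • m)
    (hN : ∀ (c : k) (n : N), c • n = φ c • n) (e : M ≃ₗ[R] N) : Module.finrank k M = Module.finrank k N :=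
  LinearEquiv.finrank_eq ({ e.toAddEquiv with
    map_smul' := fun c m => by
      show e (c • m) = c • e m
      rw [hM, hN, map_smul] } : M ≃ₗ[k] N)

variable {X Y : Scheme.{u}}

theorem str_symm_germ {U : X.Opens} {x : X} (hx : x ∈ U) (c : Γ(X, U)) :
    (RH26.str x).symm ((Coh.structureModule X).presheaf.germ U x hx (c : Γ(Coh.structureModule X, U))) =
      X.presheaf.germ U x hx c := by
  rw [LinearEquiv.symm_apply_eq, RH26.str_apply]
  show _ = X.presheaf.germ U x hx c • (Coh.structureModule X).presheaf.germ ⊤ x trivial (one ⊤)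
  rw [← germ_mres (Coh.structureModule X) (le_top : U ≤ ⊤) hx (one ⊤), ← M1.germ_smul]
  congr 1
  show c = c * X.presheaf.map (homOfLE le_top).op (1 : Γ(X, ⊤))
  rw [map_one]
  exact (mul_one (M := Γ(X, U)) c).symm

/-- The stalk of a cokernel. -/
theorem nonempty_stalk_cokernel {M N : X.Modules} (φ : M ⟶ N) (x : X) :
    Nonempty ((N.presheaf.stalk x ⧸ LinearMap.range (stalkLin φ x)) ≃ₗ[X.presheaf.stalk x]
      (cokernel φ).presheaf.stalk x) := by
  have hsurj : Function.Surjective (stalkLin (cokernel.π φ) x) := (epi_iff_stalk (cokernel.π φ)).1 inferInstance x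
  have hker : LinearMap.ker (stalkLin (cokernel.π φ) x) = LinearMap.range (stalkLin φ x) := by
    refine le_antisymm (fun b hb => ?_) ?_
    · exact (exact_iff_stalk_eq_zero (ShortComplex.mk φ (cokernel.π φ) (cokernel.condition φ))).1
        (ShortComplex.exact_cokernel φ) x b hb
    · rintro _ ⟨a, rfl⟩
      rw [LinearMap.mem_ker, ← stalkLin_comp, cokernel.condition]
      show (stalkAb x).map (0 : M ⟶ cokernel φ) a = 0
      rw [Functor.map_zero]
      rfl
  exact ⟨(Submodule.quotEquivOfEq _ _ hker.symm).trans ((stalkLin (cokernel.π φ) x).quotKerEquivOfSurjective hsurj)⟩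

variable (f : X ⟶ Y) [IsFinite f]

/-- The trace pairing of the direct image of the structure sheaf. -/
noncomputable def trPair (hA : FlatMod.IsFinLocFree (RelSpec.QCAlg.directImage f).toModule) :
    CohB1.tensorMod (pushO f) (pushO f) ⟶ Coh.structureModule Y :=
  mkHom (mulBiMap f) ≫ (Trace12.traceHom (RelSpec.QCAlg.directImage f) hA : pushO f ⟶ Coh.structureModule Y)

/-- On stalks the trace pairing is the trace form of the localized algebra. -/
theorem exists_trace_model (hA : FlatMod.IsFinLocFree (RelSpec.QCAlg.directImage f).toModule) {U : Y.Opens}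
    (hbas : Trace12.HasBas (RelSpec.QCAlg.directImage f) U) {y : Y} (hy : y ∈ U)
    (B' : Type u) [CommRing B'] [Algebra Γ(X, f ⁻¹ᵁ U) B'] [Algebra (Y.presheaf.stalk y) B'] :
    letI : Algebra Γ(Y, U) Γ(X, f ⁻¹ᵁ U) := (f.app U).hom.toAlgebra
    letI : Algebra Γ(Y, U) (Y.presheaf.stalk y) := TopCat.Presheaf.algebra_section_stalk Y.presheaf ⟨y, hy⟩
    ∀ [Algebra Γ(Y, U) B'] [IsScalarTower Γ(Y, U) Γ(X, f ⁻¹ᵁ U) B'] [IsScalarTower Γ(Y, U) (Y.presheaf.stalk y) B']
      (M : Submonoid Γ(Y, U)) [IsLocalization M (Y.presheaf.stalk y)]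
      [IsLocalization (Algebra.algebraMapSubmonoid Γ(X, f ⁻¹ᵁ U) M) B'],
      Module.Free (Y.presheaf.stalk y) B' ∧ Module.Finite (Y.presheaf.stalk y) B' ∧
      ∃ Φ : (pushO f).presheaf.stalk y ≃ₗ[Y.presheaf.stalk y] B',
        ∀ a b, (RH26.str y).symm (bil (trPair f hA) y a b) =
          Algebra.trace (Y.presheaf.stalk y) B' (Φ a * Φ b) := by
  letI : Algebra Γ(Y, U) Γ(X, f ⁻¹ᵁ U) := (f.app U).hom.toAlgebra
  letI : Algebra Γ(Y, U) (Y.presheaf.stalk y) := TopCat.Presheaf.algebra_section_stalk Y.presheaf ⟨y, hy⟩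
  intro _ _ _ M _ _
  obtain ⟨hfree, hfin⟩ := Trace12.free_of_hasBas (RelSpec.QCAlg.directImage f) hbas
  haveI : Module.Free Γ(Y, U) Γ(X, f ⁻¹ᵁ U) := hfree
  haveI : Module.Finite Γ(Y, U) Γ(X, f ⁻¹ᵁ U) := hfin
  obtain ⟨m, e, he⟩ := id hbas
  obtain ⟨b₀, hb₀⟩ := Trace12.exists_basis (RelSpec.QCAlg.directImage f) he
  let b : Module.Basis (Fin m) Γ(Y, U) Γ(X, f ⁻¹ᵁ U) := b₀
  let bB := b.localizationLocalization (Y.presheaf.stalk y) M B'
  let L : (Fin m → Y.presheaf.stalk y) →ₗ[Y.presheaf.stalk y] (pushO f).presheaf.stalk y :=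
    Fintype.linearCombination (Y.presheaf.stalk y) fun i =>
      ((pushO f).presheaf.germ U y hy (e i) : (pushO f).presheaf.stalk y)
  have hL : Function.Bijective L := he.stalk hy
  let bE := Module.Basis.ofEquivFun (LinearEquiv.ofBijective L hL).symm
  have hbE : ∀ i, bE i = ((pushO f).presheaf.germ U y hy (e i) : (pushO f).presheaf.stalk y) := fun i => by
    rw [Module.Basis.coe_ofEquivFun, LinearEquiv.symm_symm]
    show L (Pi.single i 1) = _
    rw [Fintype.linearCombination_apply_single, one_smul]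
  refine ⟨Module.Free.of_basis bB, Module.Finite.of_basis bB, bE.equiv bB (Equiv.refl _), fun a c => ?_⟩
  let T₁ := (bil (trPair f hA) y).compr₂ (RH26.str y).symm.toLinearMap
  let T₂ := (Algebra.traceForm (Y.presheaf.stalk y) B').compl₁₂ (bE.equiv bB (Equiv.refl _)).toLinearMap
    (bE.equiv bB (Equiv.refl _)).toLinearMap
  suffices h : T₁ = T₂ from LinearMap.congr_fun (LinearMap.congr_fun h a) c
  refine bE.ext fun i => bE.ext fun j => ?_
  show (RH26.str y).symm (bil (trPair f hA) y (bE i) (bE j)) =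
    Algebra.trace (Y.presheaf.stalk y) B' (bE.equiv bB (Equiv.refl _) (bE i) * bE.equiv bB (Equiv.refl _) (bE j))
  rw [Module.Basis.equiv_apply, Module.Basis.equiv_apply, Equiv.refl_apply, Equiv.refl_apply, hbE, hbE]
  simp only [bB, Module.Basis.localizationLocalization_apply]
  rw [← map_mul, Algebra.trace_localization Γ(Y, U) M, bil_apply,
    (LinearEquiv.symm_apply_eq _).2 (stalkEquiv_tsec (pushO f) (pushO f) y hy (show Γ(pushO f, U) from e i) (show Γ(pushO f, U) from e j)).symm, stalkLin_apply, germ_naturality]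
  have h2 : (trPair f hA).app U (tsec (pushO f) (pushO f) (e i) (e j)) =
      Algebra.trace Γ(Y, U) Γ(X, f ⁻¹ᵁ U) (b i * b j) := by
    let τ : pushO f ⟶ Coh.structureModule Y := Trace12.traceHom (RelSpec.QCAlg.directImage f) hA
    show (mkHom (mulBiMap f) ≫ τ).app U _ = _
    rw [Scheme.Modules.Hom.comp_app, CategoryTheory.comp_apply, mkHom_tsec]
    refine (Trace12.traceHom_app_of_hasBas (RelSpec.QCAlg.directImage f) hA hbas _).trans ?_
    exact congrArg₂ (fun s t : Γ(X, f ⁻¹ᵁ U) => Algebra.trace Γ(Y, U) Γ(X, f ⁻¹ᵁ U) (s * t)) (hb₀ i).symm (hb₀ j).symm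
  rw [h2]
  exact str_symm_germ hy _

end Groth.Agent.Hurwitz17
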